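import Mathlib
import Cfsg.Agent.Lib.OrthPrime.Quad
import Cfsg.Agent.Lib.Orth.IndexTwo

/-!
Self-adjoint square roots of a non-square scalar on a quadratic space: the quadratic invariant with values in
the quadratic extension, and the conjugacy of two such maps.
-/

set_option autoImplicit false
set_option linter.unusedSectionVars false

namespace Cfsg.Agent.Lib.OrthExtDerange

open QuadraticMap OrthPrime
open scoped _root_.Classical

universe u

variable {F : Type u} [Field F]
variable {V : Type u} [AddCommGroup V] [Module F V]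

/-- `Y` is self-adjoint, has its image in `W` and squares to `δ` on `W`. -/
structure SqrtOn (Q : QuadraticForm F V) (δ : F) (W : Submodule F V) (Y : V →ₗ[F] V) : Prop where
  mem : ∀ x, Y x ∈ W
  sa : ∀ x y, polar ⇑Q (Y x) y = polar ⇑Q x (Y y)
  sq : ∀ w ∈ W, Y (Y w) = δ • w

variable {Q : QuadraticForm F V} {δ : F} {Y : V →ₗ[F] V}

theorem SqrtOn.sq' (hY : SqrtOn Q δ ⊤ Y) (x : V) : Y (Y x) = δ • x := hY.sq x trivial

theorem exists_aniso (h2 : (2 : F) ≠ 0) {W : Submodule F V} (hW : Nd Q W) (hne : W ≠ ⊥) :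
    ∃ v ∈ W, Q v ≠ 0 := by
  by_contra! h
  obtain ⟨v, hv, hv0⟩ := Submodule.exists_mem_ne_zero_of_ne_bot hne
  refine hv0 (hW v hv fun x hx => ?_)
  simp [polar, h _ hv, h _ hx, h _ (W.add_mem hv hx)]

/-- The linear map `(s, t) ↦ s v + t Y v`. -/
def pm (Y : V →ₗ[F] V) (v : V) : F × F →ₗ[F] V :=
  (LinearMap.id.smulRight v).coprod (LinearMap.id.smulRight (Y v))

@[simp] theorem pm_apply (v : V) (x : F × F) : pm Y v x = x.1 • v + x.2 • Y v := rfl

/-- The quadratic invariant. -/
def beta (Q : QuadraticForm F V) (δ : F) (Y : V →ₗ[F] V) (v : V) : QuadraticAlgebra F δ 0 :=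
  ⟨polar ⇑Q v (Y v), polar ⇑Q v v⟩

/-- The action of the extension field. -/
def act (Y : V →ₗ[F] V) (k : QuadraticAlgebra F δ 0) (v : V) : V := k.re • v + k.im • Y v

theorem beta_act (hY : SqrtOn Q δ ⊤ Y) (k : QuadraticAlgebra F δ 0) (v : V) :
    beta Q δ Y (act Y k v) = k * k * beta Q δ Y v := by
  have e1 : polar ⇑Q (Y v) v = polar ⇑Q v (Y v) := polar_comm _ _ _
  have e2 : polar ⇑Q (Y v) (Y v) = δ * polar ⇑Q v v := by
    rw [hY.sa, hY.sq', polar_smul_right, smul_eq_mul]
  apply QuadraticAlgebra.ext <;>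
    simp only [beta, act, QuadraticAlgebra.re_mul, QuadraticAlgebra.im_mul, map_add, map_smul, hY.sq',
      polar_add_left, polar_add_right, polar_smul_left, polar_smul_right, smul_eq_mul, e1, e2] <;>
    ring

theorem beta_add (hY : SqrtOn Q δ ⊤ Y) {v w : V} (h0 : polar ⇑Q v w = 0) (h1 : polar ⇑Q v (Y w) = 0) :
    beta Q δ Y (v + w) = beta Q δ Y v + beta Q δ Y w := by
  have h1' : polar ⇑Q w (Y v) = 0 := by rw [← hY.sa, polar_comm, h1]
  have h0' : polar ⇑Q w v = 0 := by rw [polar_comm, h0]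
  apply QuadraticAlgebra.ext <;>
    simp only [beta, QuadraticAlgebra.re_add, QuadraticAlgebra.im_add, map_add, polar_add_left, polar_add_right,
      h0, h1, h0', h1', add_zero, zero_add]

theorem beta_ne_zero (h2 : (2 : F) ≠ 0) {v : V} (hv : Q v ≠ 0) : beta Q δ Y v ≠ 0 := by
  intro h
  have := congrArg QuadraticAlgebra.im h
  simp only [beta, polar_self, two_nsmul, QuadraticAlgebra.im_zero] at this
  exact hv ((mul_eq_zero.1 ((two_mul _).trans this)).resolve_left h2)

theorem Q_pm_eq (hY : SqrtOn Q δ ⊤ Y) (v : V) (x : F × F) :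
    2 * Q (pm Y v x) =
      x.1 ^ 2 * (beta Q δ Y v).im + x.2 ^ 2 * δ * (beta Q δ Y v).im + 2 * x.1 * x.2 * (beta Q δ Y v).re := by
  have e1 : polar ⇑Q (Y v) v = polar ⇑Q v (Y v) := polar_comm _ _ _
  have e2 : polar ⇑Q (Y v) (Y v) = δ * polar ⇑Q v v := by
    rw [hY.sa, hY.sq', polar_smul_right, smul_eq_mul]
  have h := polar_self Q (pm Y v x)
  rw [two_nsmul, ← two_mul] at h
  rw [← h]
  simp only [pm_apply, beta, polar_add_left, polar_add_right, polar_smul_left, polar_smul_right, smul_eq_mul,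
    e1, e2]
  ring

section NonSquare

variable (hδ : ¬ IsSquare δ)
include hδ

theorem fact_nonsquare : Fact (∀ r : F, r ^ 2 ≠ δ + 0 * r) :=
  ⟨fun r h => hδ ⟨r, by linear_combination -h⟩⟩

theorem eq_zero_of_beta (hY : SqrtOn Q δ ⊤ Y) {v : V} (hb : beta Q δ Y v ≠ 0) {x : F × F}
    (h1 : polar ⇑Q (pm Y v x) v = 0) (h2 : polar ⇑Q (pm Y v x) (Y v) = 0) : x = 0 := by
  have e1 : polar ⇑Q (Y v) v = polar ⇑Q v (Y v) := polar_comm _ _ _
  have e2 : polar ⇑Q (Y v) (Y v) = δ * polar ⇑Q v v := by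
    rw [hY.sa, hY.sq', polar_smul_right, smul_eq_mul]
  simp only [pm_apply, polar_add_left, polar_smul_left, smul_eq_mul, e1, e2] at h1 h2
  have hdet : δ * polar ⇑Q v v ^ 2 - polar ⇑Q v (Y v) ^ 2 ≠ 0 := by
    intro h
    rcases eq_or_ne (polar ⇑Q v v) 0 with h0 | h0
    · apply hb
      rw [h0] at h
      apply QuadraticAlgebra.ext
      · simpa [beta] using h
      · simpa [beta] using h0
    · exact hδ ⟨polar ⇑Q v (Y v) / polar ⇑Q v v, by field_simp; linear_combination h⟩
  refine Prod.ext ((mul_eq_zero.1 ?_).resolve_left hdet) ((mul_eq_zero.1 ?_).resolve_left hdet)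
  · linear_combination δ * polar ⇑Q v v * h1 - polar ⇑Q v (Y v) * h2
  · linear_combination polar ⇑Q v v * h2 - polar ⇑Q v (Y v) * h1

theorem pm_injective (hY : SqrtOn Q δ ⊤ Y) {v : V} (hb : beta Q δ Y v ≠ 0) : Function.Injective (pm Y v) :=
  (injective_iff_map_eq_zero _).2 fun x hx =>
    eq_zero_of_beta hδ hY hb (by rw [hx, polar_zero_left]) (by rw [hx, polar_zero_left])

theorem plane_nd (hY : SqrtOn Q δ ⊤ Y) {v : V} (hb : beta Q δ Y v ≠ 0) :
    Nd Q (LinearMap.range (pm Y v)) := by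
  rintro _ ⟨x, rfl⟩ h
  rw [eq_zero_of_beta hδ hY hb (h v ⟨(1, 0), by simp⟩) (h (Y v) ⟨(0, 1), by simp⟩), map_zero]

theorem finrank_plane (hY : SqrtOn Q δ ⊤ Y) {v : V} (hb : beta Q δ Y v ≠ 0) :
    Module.finrank F (LinearMap.range (pm Y v)) = 2 * 1 := by
  rw [LinearMap.finrank_range_of_inj (pm_injective hδ hY hb)]
  simp

variable [Fintype F] [FiniteDimensional F V]

theorem isSquare_of_im_zero (h2 : (2 : F) ≠ 0) {c : QuadraticAlgebra F δ 0} (hc : c.im = 0) : IsSquare c := by
  by_cases hs : IsSquare c.re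
  · obtain ⟨s, hs⟩ := hs
    exact ⟨⟨s, 0⟩, by apply QuadraticAlgebra.ext <;> simp [hs, hc]⟩
  · have hc0 : c.re ≠ 0 := fun h => hs (by rw [h]; exact IsSquare.zero)
    have hδ0 : δ ≠ 0 := fun h => hδ (h ▸ IsSquare.zero)
    obtain ⟨t, -, ht⟩ := Orth.exists_sq_mul h2 hδ0 hc0 (iff_of_false hδ hs)
    exact ⟨⟨0, t⟩, by apply QuadraticAlgebra.ext <;> simp [ht, hc]; ring⟩

/-- A plane is hyperbolic exactly when its invariant is a square. -/
theorem isHyp_plane (h2 : (2 : F) ≠ 0) (hY : SqrtOn Q δ ⊤ Y) {v : V} (hb : beta Q δ Y v ≠ 0) :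
    FormConj.IsHyp (rQ Q (LinearMap.range (pm Y v))) ↔ IsSquare (beta Q δ Y v) := by
  haveI := fact_nonsquare hδ
  rw [isHyp_rQ_iff]
  constructor
  · rintro ⟨U, hU, hU0, hUd⟩
    rw [finrank_plane hδ hY hb] at hUd
    obtain ⟨u, hu, hune⟩ := Submodule.exists_mem_ne_zero_of_ne_bot
      (fun h => by rw [h, finrank_bot] at hUd; omega : U ≠ ⊥)
    obtain ⟨x, hx⟩ := hU hu
    set k : QuadraticAlgebra F δ 0 := ⟨x.1, x.2⟩
    have hk : k ≠ 0 := by
      intro h
      refine hune ?_
      rw [← hx, show x = 0 from Prod.ext (congrArg QuadraticAlgebra.re h) (congrArg QuadraticAlgebra.im h),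
        map_zero]
    have hu2 : act Y k v = u := hx
    have him : (k * k * beta Q δ Y v).im = 0 := by
      rw [← beta_act hY, hu2]
      simp [beta, polar_self, hU0 u hu]
    obtain ⟨m, hm⟩ := isSquare_of_im_zero hδ h2 him
    exact ⟨m / k, by field_simp; linear_combination hm⟩
  · rintro ⟨m, hm⟩
    have hm0 : m ≠ 0 := fun h => hb (by rw [hm, h, mul_zero])
    set u := act Y m⁻¹ v with hu
    have hu0 : Q u = 0 := by
      have h := congrArg QuadraticAlgebra.im (beta_act hY m⁻¹ v)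
      rw [← hu, show m⁻¹ * m⁻¹ * beta Q δ Y v = 1 by rw [hm]; field_simp] at h
      simp only [beta, polar_self, two_nsmul, QuadraticAlgebra.im_one] at h
      exact (mul_eq_zero.1 ((two_mul _).trans h)).resolve_left h2
    have hune : u ≠ 0 := by
      intro h
      have h' : pm Y v ((m⁻¹).re, (m⁻¹).im) = 0 := h
      have h0 := pm_injective hδ hY hb (h'.trans (map_zero (pm Y v)).symm)
      exact inv_ne_zero hm0 (QuadraticAlgebra.ext (congrArg Prod.fst h0) (congrArg Prod.snd h0))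
    refine ⟨F ∙ u, ?_, ?_, ?_⟩
    · rw [Submodule.span_singleton_le_iff_mem]
      exact ⟨((m⁻¹).re, (m⁻¹).im), rfl⟩
    · intro w hw
      obtain ⟨c, rfl⟩ := Submodule.mem_span_singleton.1 hw
      rw [QuadraticMap.map_smul, hu0, smul_zero]
    · rw [finrank_span_singleton hune, finrank_plane hδ hY hb]

/-- Above dimension two every value is attained. -/
theorem exists_beta (h2 : (2 : F) ≠ 0) (hQ : (polarBilin Q).Nondegenerate) (hY : SqrtOn Q δ ⊤ Y)
    (hdim : 2 < Module.finrank F V) (c : QuadraticAlgebra F δ 0) : ∃ v, beta Q δ Y v = c := by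
  haveI := fact_nonsquare hδ
  haveI : Finite (QuadraticAlgebra F δ 0) := Finite.of_equiv _ (QuadraticAlgebra.equivProd δ 0).symm
  haveI := Fintype.ofFinite (QuadraticAlgebra F δ 0)
  obtain ⟨v, -, hv⟩ := exists_aniso h2 (nd_top Q hQ) (fun h => by
    have := congrArg (fun W : Submodule F V => Module.finrank F W) h
    simp only [finrank_top, finrank_bot] at this
    omega)
  have hbv : beta Q δ Y v ≠ 0 := beta_ne_zero h2 hv
  have hP := plane_nd hδ hY hbv
  obtain ⟨w, hw, hw0⟩ := exists_aniso h2 (nd_qperp Q hQ hP) (fun h => by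
    have := finrank_qperp Q hP
    rw [h, finrank_bot, finrank_plane hδ hY hbv] at this
    omega)
  have hbw : beta Q δ Y w ≠ 0 := beta_ne_zero h2 hw0
  have hcard : Fintype.card (QuadraticAlgebra F δ 0) % 2 = 1 := by
    rw [← Nat.card_eq_fintype_card, Nat.card_congr (QuadraticAlgebra.equivProd δ 0), Nat.card_prod,
      Nat.card_eq_fintype_card, Nat.mul_mod]
    have := FiniteField.odd_card_of_char_ne_two (F := F) (fun e => h2 (by
      have h' : ((2 : ℕ) : F) = 0 := (ringChar.spec F 2).2 (by rw [e])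
      simpa using h'))
    rw [this]
  obtain ⟨a, b, hab⟩ := FiniteField.exists_root_sum_quadratic
    (f := Polynomial.C (beta Q δ Y v) * Polynomial.X ^ 2)
    (g := Polynomial.C (beta Q δ Y w) * Polynomial.X ^ 2 - Polynomial.C c)
    (Polynomial.degree_C_mul_X_pow 2 hbv)
    (by rw [Polynomial.degree_sub_eq_left_of_degree_lt]
        · exact Polynomial.degree_C_mul_X_pow 2 hbw
        · rw [Polynomial.degree_C_mul_X_pow 2 hbw]
          exact Polynomial.degree_C_le.trans_lt (by decide)) hcard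
  simp only [Polynomial.eval_mul, Polynomial.eval_C, Polynomial.eval_pow, Polynomial.eval_X,
    Polynomial.eval_sub] at hab
  have hperp : ∀ x : F × F, polar ⇑Q (pm Y v x) w = 0 := fun x => (mem_qperp Q).1 hw _ ⟨x, rfl⟩
  refine ⟨act Y a v + act Y b w, ?_⟩
  rw [beta_add hY, beta_act hY, beta_act hY]
  · linear_combination hab
  · have h1 := hperp (a.re, a.im)
    have h2' : polar ⇑Q (Y (pm Y v (a.re, a.im))) w = 0 := by
      have e : Y (pm Y v (a.re, a.im)) = pm Y v (δ * a.im, a.re) := by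
        simp [hY.sq', smul_smul, mul_comm, add_comm]
      rw [e]
      exact hperp _
    show polar ⇑Q (pm Y v (a.re, a.im)) (b.re • w + b.im • Y w) = 0
    rw [polar_add_right, polar_smul_right, polar_smul_right, h1, ← hY.sa, h2', smul_zero, smul_zero, add_zero]
  · have h1 := hperp (δ * a.im, a.re)
    have h2' : polar ⇑Q (Y (pm Y v (a.re, a.im))) (Y w) = 0 := by
      rw [hY.sa, hY.sq', polar_smul_right, hperp, smul_zero]
    show polar ⇑Q (pm Y v (a.re, a.im)) (Y (b.re • w + b.im • Y w)) = 0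
    rw [← hY.sa, polar_add_right, polar_smul_right, polar_smul_right, h2']
    rw [show Y (pm Y v (a.re, a.im)) = pm Y v (δ * a.im, a.re) by simp [hY.sq', smul_smul, mul_comm, add_comm], h1]
    simp

theorem plane_perp_inv (hY : SqrtOn Q δ ⊤ Y) (v : V) {x : V}
    (hx : x ∈ qperp Q (LinearMap.range (pm Y v))) : Y x ∈ qperp Q (LinearMap.range (pm Y v)) := by
  rw [mem_qperp] at hx ⊢
  rintro _ ⟨a, rfl⟩
  rw [← hY.sa]
  exact hx _ ⟨(δ * a.2, a.1), by simp [hY.sq', smul_smul, mul_comm, add_comm]⟩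

end NonSquare

/-- Two self-adjoint square roots of a non-square on isometric spaces are conjugate by an isometry. -/
theorem exists_conj [Fintype F] (h2 : (2 : F) ≠ 0) {δ : F} (hδ : ¬ IsSquare δ) (d : ℕ) :
    ∀ {V V' : Type u} [AddCommGroup V] [Module F V] [FiniteDimensional F V] [AddCommGroup V'] [Module F V']
      [FiniteDimensional F V'] (Q : QuadraticForm F V) (Q' : QuadraticForm F V'),
      (polarBilin Q).Nondegenerate → (polarBilin Q').Nondegenerate →
      Module.finrank F V = 2 * d → Module.finrank F V' = 2 * d → qsgn Q = qsgn Q' →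
      ∀ (Y : V →ₗ[F] V) (Y' : V' →ₗ[F] V'), SqrtOn Q δ ⊤ Y → SqrtOn Q' δ ⊤ Y' →
      ∃ g : V ≃ₗ[F] V', (∀ x, Q' (g x) = Q x) ∧ ∀ x, g (Y x) = Y' (g x) := by
  induction d with
  | zero =>
    intro V V' _ _ _ _ _ _ Q Q' _ _ hV hV' _ Y Y' _ _
    haveI : Subsingleton V := Module.finrank_zero_iff.1 (hV.trans (mul_zero 2))
    haveI : Subsingleton V' := Module.finrank_zero_iff.1 (hV'.trans (mul_zero 2))
    exact ⟨LinearEquiv.ofFinrankEq V V' (hV.trans hV'.symm), fun x => by
      rw [Subsingleton.elim x 0, map_zero, QuadraticMap.map_zero, QuadraticMap.map_zero],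
      fun x => Subsingleton.elim _ _⟩
  | succ d ih =>
    intro V V' _ _ _ _ _ _ Q Q' hQ hQ' hV hV' hs Y Y' hY hY'
    haveI := fact_nonsquare hδ
    have hne : ∀ {X : Type u} [AddCommGroup X] [Module F X], Module.finrank F X = 2 * (d + 1) →
        (⊤ : Submodule F X) ≠ ⊥ := by
      intro X _ _ hX h
      have := congrArg (fun W : Submodule F X => Module.finrank F W) h
      simp only [finrank_top, finrank_bot] at this
      omega
    obtain ⟨v, -, hv⟩ := exists_aniso h2 (nd_top Q hQ) (hne hV)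
    have hb : beta Q δ Y v ≠ 0 := beta_ne_zero h2 hv
    set P := LinearMap.range (pm Y v) with hPdef
    have hP : Nd Q P := plane_nd hδ hY hb
    have hPd : Module.finrank F P = 2 * 1 := finrank_plane hδ hY hb
    have hPc : Module.finrank F (qperp Q P) = 2 * d := by have := finrank_qperp Q hP; omega
    -- a vector of the second space with the same invariant
    obtain ⟨v', hv'⟩ : ∃ v' : V', beta Q' δ Y' v' = beta Q δ Y v := by
      rcases Nat.eq_zero_or_pos d with hd | hd
      · subst hd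
        obtain ⟨w, -, hw⟩ := exists_aniso h2 (nd_top Q' hQ') (hne hV')
        have hbw : beta Q' δ Y' w ≠ 0 := beta_ne_zero h2 hw
        have htop : ∀ {X : Type u} [AddCommGroup X] [Module F X] [FiniteDimensional F X] (R : QuadraticForm F X)
            (T : X →ₗ[F] X) (x : X), SqrtOn R δ ⊤ T → beta R δ T x ≠ 0 → Module.finrank F X = 2 * (0 + 1) →
            (qsgn R = 1 ↔ IsSquare (beta R δ T x)) := by
          intro X _ _ _ R T x hT hx hX
          rw [← isHyp_plane hδ h2 hT hx, ← qsgn_eq_one_iff]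
          have ht : LinearMap.range (pm T x) = ⊤ :=
            Submodule.eq_top_of_finrank_eq (by rw [finrank_plane hδ hT hx, hX])
          rw [qsgn_congr (R := rQ R (LinearMap.range (pm T x))) (T := R) (LinearEquiv.ofTop _ ht) fun _ => rfl]
        have hiff : IsSquare (beta Q' δ Y' w) ↔ IsSquare (beta Q δ Y v) := by
          rw [← htop Q' Y' w hY' hbw hV', ← htop Q Y v hY hb hV, hs]
        haveI : Finite (QuadraticAlgebra F δ 0) := Finite.of_equiv _ (QuadraticAlgebra.equivProd δ 0).symm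
        have h2L : (2 : QuadraticAlgebra F δ 0) ≠ 0 := by
          intro h
          have := congrArg QuadraticAlgebra.re h
          rw [← one_add_one_eq_two] at this
          simp only [QuadraticAlgebra.re_add, QuadraticAlgebra.re_one, QuadraticAlgebra.re_zero] at this
          exact h2 (by rw [← one_add_one_eq_two]; exact this)
        obtain ⟨t, -, ht⟩ := Orth.exists_sq_mul h2L hbw hb hiff
        exact ⟨act Y' t w, by rw [beta_act hY', ht]; ring⟩
      · exact exists_beta hδ h2 hQ' hY' (by omega) _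
    have hb' : beta Q' δ Y' v' ≠ 0 := hv' ▸ hb
    set P' := LinearMap.range (pm Y' v') with hP'def
    have hP' : Nd Q' P' := plane_nd hδ hY' hb'
    have hPd' : Module.finrank F P' = 2 * 1 := finrank_plane hδ hY' hb'
    have hPc' : Module.finrank F (qperp Q' P') = 2 * d := by have := finrank_qperp Q' hP'; omega
    let φ : P ≃ₗ[F] P' := (LinearEquiv.ofInjective _ (pm_injective hδ hY hb)).symm.trans
      (LinearEquiv.ofInjective _ (pm_injective hδ hY' hb'))
    have hφv : ∀ x : F × F, ((φ ⟨pm Y v x, ⟨x, rfl⟩⟩ : P') : V') = pm Y' v' x := by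
      intro x
      have : (LinearEquiv.ofInjective _ (pm_injective hδ hY hb)).symm ⟨pm Y v x, ⟨x, rfl⟩⟩ = x := by
        rw [LinearEquiv.symm_apply_eq]; rfl
      simp only [φ, LinearEquiv.trans_apply, this]
      rfl
    have hφQ : ∀ a : P, rQ Q' P' (φ a) = rQ Q P a := by
      rintro ⟨_, x, rfl⟩
      show Q' (φ _ : V') = Q (pm Y v x)
      rw [hφv]
      apply mul_left_cancel₀ h2
      rw [Q_pm_eq hY, Q_pm_eq hY', hv']
    have hs' : qsgn (rQ Q (qperp Q P)) = qsgn (rQ Q' (qperp Q' P')) := by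
      have h := hs
      rw [qsgn_split Q hQ hP hPd hPc, qsgn_split Q' hQ' hP' hPd' hPc', qsgn_congr φ hφQ] at h
      rcases qsgn_cases (rQ Q P) with h1 | h1 <;> rw [h1] at h <;> omega
    obtain ⟨ψ, hψQ, hψY⟩ := ih (rQ Q (qperp Q P)) (rQ Q' (qperp Q' P'))
      ((nd_iff Q _).2 (nd_qperp Q hQ hP)) ((nd_iff Q' _).2 (nd_qperp Q' hQ' hP')) hPc hPc' hs'
      (Y.restrict fun x hx => plane_perp_inv hδ hY v hx) (Y'.restrict fun x hx => plane_perp_inv hδ hY' v' hx)
      ⟨fun _ => trivial, fun a b => by rw [polar_rQ, polar_rQ]; exact hY.sa a b,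
        fun a _ => Subtype.ext (hY.sq' (a : V))⟩
      ⟨fun _ => trivial, fun a b => by rw [polar_rQ, polar_rQ]; exact hY'.sa a b,
        fun a _ => Subtype.ext (hY'.sq' (a : V'))⟩
    let Φ := splitEquiv Q hP
    let Φ' := splitEquiv Q' hP'
    let g : V ≃ₗ[F] V' := (Φ.symm.trans (φ.prodCongr ψ)).trans Φ'
    have hg : ∀ a b, g (Φ (a, b)) = Φ' (φ a, ψ b) := fun a b => by simp [g]
    refine ⟨g, fun x => ?_, fun x => ?_⟩
    · obtain ⟨⟨a, b⟩, rfl⟩ := Φ.surjective x
      rw [hg, splitEquiv_form, splitEquiv_form, QuadraticMap.prod_apply, QuadraticMap.prod_apply, hφQ, hψQ]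
    · obtain ⟨⟨⟨_, s, rfl⟩, b⟩, rfl⟩ := Φ.surjective x
      have e1 : Y (Φ (⟨pm Y v s, s, rfl⟩, b)) =
          Φ (⟨pm Y v (δ * s.2, s.1), _, rfl⟩, ⟨Y b, plane_perp_inv hδ hY v b.2⟩) := by
        simp [Φ, splitEquiv_apply, hY.sq', smul_smul, mul_comm, add_comm]
      rw [e1, hg, hg]
      simp only [Φ', splitEquiv_apply, map_add, hφv]
      have := congrArg Subtype.val (hψY b)
      simp only [LinearMap.restrict_apply] at this
      rw [show ((ψ ⟨Y b, plane_perp_inv hδ hY v b.2⟩ : qperp Q' P') : V') = Y' (ψ b : V') from this]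
      simp [hY'.sq', smul_smul, mul_comm, add_comm]

end Cfsg.Agent.Lib.OrthExtDerange
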