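import Mathlib
import Cfsg.Agent.Lib.OrthExtDerange.Basic
import Cfsg.Agent.Lib.OrthPrime.Elem

/-!
Existence of self-adjoint square roots of a non-square scalar, also commuting or anticommuting with an element
of order two modulo scalars.
-/

set_option autoImplicit false
set_option linter.unusedSectionVars false

namespace Cfsg.Agent.Lib.OrthExtDerange

open QuadraticMap OrthPrime
open scoped _root_.Classical

universe u

variable {F : Type u} [Field F]
variable {V : Type u} [AddCommGroup V] [Module F V] [FiniteDimensional F V]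
variable {Q : QuadraticForm F V} {δ : F}

/-- A map with image in `W` kills the orthogonal complement. -/
theorem SqrtOn.zero_of_perp {W : Submodule F V} {Y : V →ₗ[F] V} (hQ : (polarBilin Q).Nondegenerate)
    (hY : SqrtOn Q δ W Y) {x : V} (hx : x ∈ qperp Q W) : Y x = 0 :=
  hQ.1 _ fun y => by
    rw [polarBilin_apply_apply, hY.sa, polar_comm]
    exact (mem_qperp Q).1 hx _ (hY.mem y)

/-- Orthogonal sum. -/
theorem SqrtOn.add (hQ : (polarBilin Q).Nondegenerate) {W₁ W₂ : Submodule F V} (hW : W₂ ≤ qperp Q W₁)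
    {Y₁ Y₂ : V →ₗ[F] V} (h₁ : SqrtOn Q δ W₁ Y₁) (h₂ : SqrtOn Q δ W₂ Y₂) :
    SqrtOn Q δ (W₁ ⊔ W₂) (Y₁ + Y₂) := by
  have hW' : W₁ ≤ qperp Q W₂ := fun a ha => (mem_qperp Q).2 fun b hb => by
    rw [polar_comm]; exact (mem_qperp Q).1 (hW hb) a ha
  refine ⟨fun x => Submodule.add_mem_sup (h₁.mem x) (h₂.mem x), fun x y => ?_, fun w hw => ?_⟩
  · simp only [LinearMap.add_apply, polar_add_left, polar_add_right, h₁.sa, h₂.sa]
  · obtain ⟨a, ha, b, hb, rfl⟩ := Submodule.mem_sup.1 hw
    simp only [LinearMap.add_apply, map_add, smul_add, h₁.zero_of_perp hQ (hW hb), h₂.zero_of_perp hQ (hW' ha),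
      h₁.zero_of_perp hQ (hW (h₂.mem b)), h₂.zero_of_perp hQ (hW' (h₁.mem a)), h₁.sq a ha, h₂.sq b hb,
      add_zero, zero_add, map_zero]

theorem inner_split {P W : Submodule F V} (hP : Nd Q P) (hW : Nd Q W) (hPW : P ≤ W) :
    P ⊔ (W ⊓ qperp Q P) = W ∧ Nd Q (W ⊓ qperp Q P) ∧
      Module.finrank F P + Module.finrank F ↥(W ⊓ qperp Q P) = Module.finrank F W := by
  have hc := isCompl_qperp Q hP
  have h1 : P ⊔ (W ⊓ qperp Q P) = W := by
    rw [inf_comm, ← sup_inf_assoc_of_le _ hPW, hc.sup_eq_top, top_inf_eq]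
  refine ⟨h1, fun w hw hx => hW w hw.1 fun x hxW => ?_, ?_⟩
  · obtain ⟨a, ha, b, hb, rfl⟩ := Submodule.mem_sup.1 (h1.symm ▸ hxW : x ∈ P ⊔ (W ⊓ qperp Q P))
    rw [polar_add_right, hx b hb, polar_comm, (mem_qperp Q).1 hw.2 a ha, add_zero]
  · have h := Submodule.finrank_sup_add_finrank_inf_eq P (W ⊓ qperp Q P)
    have h2 : P ⊓ (W ⊓ qperp Q P) = ⊥ := eq_bot_iff.2 fun x hx => hc.inf_eq_bot.le ⟨hx.1, hx.2.2⟩
    rw [h1, h2, finrank_bot, add_zero] at h
    exact h.symm

/-- The map on the plane of two orthogonal vectors with matrix `[[α, bt], [at, -α]]`. -/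
noncomputable def planeMap (Q : QuadraticForm F V) (u w : V) (α t : F) : V →ₗ[F] V :=
  (((2 * Q u)⁻¹ : F) • polarBilin Q u).smulRight (α • u + (Q u * t) • w) +
    (((2 * Q w)⁻¹ : F) • polarBilin Q w).smulRight ((Q w * t) • u - α • w)

theorem planeMap_apply (u w : V) (α t : F) (x : V) :
    planeMap Q u w α t x = ((2 * Q u)⁻¹ * polar ⇑Q u x) • (α • u + (Q u * t) • w) +
      ((2 * Q w)⁻¹ * polar ⇑Q w x) • ((Q w * t) • u - α • w) := rfl

theorem planeMap_sqrt (h2 : (2 : F) ≠ 0) {u w : V} (hu : Q u ≠ 0) (hw : Q w ≠ 0) (huw : polar ⇑Q u w = 0)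
    {α t : F} (h : α ^ 2 + Q u * Q w * t ^ 2 = δ) :
    SqrtOn Q δ (Submodule.span F {u, w}) (planeMap Q u w α t) := by
  have hmem : ∀ a b : F, a • u + b • w ∈ Submodule.span F {u, w} := fun a b =>
    Submodule.mem_span_pair.2 ⟨a, b, rfl⟩
  refine ⟨fun x => ?_, fun x y => ?_, fun v hv => ?_⟩
  · rw [planeMap_apply]
    refine add_mem (Submodule.smul_mem _ _ (hmem _ _)) (Submodule.smul_mem _ _ ?_)
    rw [sub_eq_add_neg, ← neg_smul]
    exact hmem _ _
  · simp only [planeMap_apply, polar_add_left, polar_add_right, polar_sub_left, polar_sub_right, polar_smul_left,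
      polar_smul_right, smul_eq_mul, polar_comm (⇑Q) x u, polar_comm (⇑Q) x w]
    field_simp
    ring
  · have hwu : polar ⇑Q w u = 0 := by rw [polar_comm, huw]
    obtain ⟨a, b, rfl⟩ := Submodule.mem_span_pair.1 hv
    have hY : ∀ a b : F, planeMap Q u w α t (a • u + b • w) =
        (a * α + b * (Q w * t)) • u + (a * (Q u * t) - b * α) • w := by
      intro a b
      simp only [planeMap_apply, polar_add_right, polar_smul_right, huw, hwu, polar_self, two_nsmul, ← two_mul,
        smul_eq_mul, mul_zero, add_zero, zero_add]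
      rw [show (2 * Q u)⁻¹ * (a * (2 * Q u)) = a by field_simp,
        show (2 * Q w)⁻¹ * (b * (2 * Q w)) = b by field_simp]
      module
    rw [hY, hY, smul_add, smul_smul, smul_smul, ← h]
    module

theorem nd_span_pair (h2 : (2 : F) ≠ 0) {u w : V} (hu : Q u ≠ 0) (hw : Q w ≠ 0) (huw : polar ⇑Q u w = 0) :
    Nd Q (Submodule.span F {u, w}) ∧ Module.finrank F (Submodule.span F {u, w}) = 2 := by
  have hwu : polar ⇑Q w u = 0 := by rw [polar_comm, huw]
  have hz : ∀ a b : F, (∀ x ∈ Submodule.span F ({u, w} : Set V), polar ⇑Q (a • u + b • w) x = 0) → a = 0 ∧ b = 0 := by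
    intro a b h
    have h1 := h u (Submodule.subset_span (by simp))
    have h3 := h w (Submodule.subset_span (by simp))
    simp only [polar_add_left, polar_smul_left, polar_self, two_nsmul, ← two_mul, huw, hwu, smul_eq_mul,
      mul_zero, add_zero, zero_add, mul_eq_zero, h2, hu, hw, or_false] at h1 h3
    exact ⟨h1, h3⟩
  refine ⟨fun v hv h => ?_, ?_⟩
  · obtain ⟨a, b, rfl⟩ := Submodule.mem_span_pair.1 hv
    obtain ⟨rfl, rfl⟩ := hz a b h
    simp
  · have hli : LinearIndependent F ![u, w] := LinearIndependent.pair_iff.2 fun a b hab =>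
      hz a b fun x _ => by rw [hab, polar_zero_left]
    have h := finrank_span_eq_card hli
    rw [Matrix.range_cons_cons_empty, Fintype.card_fin] at h
    exact h

section Finite

variable [Fintype F] (h2 : (2 : F) ≠ 0) (hQ : (polarBilin Q).Nondegenerate)
include h2

theorem exists_coeff {c : F} (hc : c ≠ 0) (δ : F) : ∃ α t : F, α ^ 2 + c * t ^ 2 = δ := by
  have hodd := FiniteField.odd_card_of_char_ne_two (F := F) (fun e => h2 (by
    have h' : ((2 : ℕ) : F) = 0 := (ringChar.spec F 2).2 (by rw [e])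
    simpa using h'))
  obtain ⟨a, b, hab⟩ := FiniteField.exists_root_sum_quadratic
    (f := Polynomial.X ^ 2 - Polynomial.C δ) (g := Polynomial.C c * Polynomial.X ^ 2)
    (Polynomial.degree_X_pow_sub_C (by norm_num) δ) (Polynomial.degree_C_mul_X_pow 2 hc) hodd
  simp only [Polynomial.eval_mul, Polynomial.eval_C, Polynomial.eval_pow, Polynomial.eval_X,
    Polynomial.eval_sub] at hab
  exact ⟨a, b, by linear_combination hab⟩

include hQ

/-- Every non-degenerate subspace of even dimension carries such a map. -/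
theorem exists_sqrt (δ : F) (k : ℕ) :
    ∀ W : Submodule F V, Nd Q W → Module.finrank F W = 2 * k → ∃ Y, SqrtOn Q δ W Y := by
  induction k with
  | zero =>
    intro W _ hWd
    refine ⟨0, fun x => by simp, fun x y => by simp, fun w hw => ?_⟩
    rw [Submodule.finrank_eq_zero.1 (hWd.trans (mul_zero 2))] at hw
    simp [(Submodule.mem_bot F).1 hw]
  | succ k ih =>
    intro W hW hWd
    obtain ⟨u, huW, hu⟩ := exists_aniso h2 hW (fun h => by rw [h, finrank_bot] at hWd; omega)
    have huu : Nd Q (F ∙ u) := by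
      intro x hx h
      obtain ⟨c, rfl⟩ := Submodule.mem_span_singleton.1 hx
      have := h u (Submodule.mem_span_singleton_self u)
      rw [polar_smul_left, polar_self, two_nsmul, ← two_mul, smul_eq_mul] at this
      rw [(mul_eq_zero.1 this).resolve_right (mul_ne_zero h2 hu), zero_smul]
    obtain ⟨-, hW1, hW1d⟩ := inner_split huu hW (by rwa [Submodule.span_singleton_le_iff_mem])
    rw [finrank_span_singleton (fun h => hu (by rw [h, map_zero]))] at hW1d
    obtain ⟨w, hwW, hw⟩ := exists_aniso h2 hW1 (fun h => by rw [h, finrank_bot] at hW1d; omega)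
    have huw : polar ⇑Q u w = 0 := (mem_qperp Q).1 hwW.2 u (Submodule.mem_span_singleton_self u)
    obtain ⟨hP, hPd⟩ := nd_span_pair h2 hu hw huw
    obtain ⟨hs, hW', hW'd⟩ := inner_split hP hW (Submodule.span_le.2 (by
      rintro x (rfl | rfl)
      · exact huW
      · exact hwW.1))
    obtain ⟨α, t, ht⟩ := exists_coeff h2 (mul_ne_zero hu hw) δ
    obtain ⟨Y, hY⟩ := ih _ hW' (by omega)
    have := (planeMap_sqrt h2 hu hw huw ht).add hQ inf_le_right hY
    rw [hs] at this
    exact ⟨_, this⟩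

variable {x : V ≃ₗ[F] V} (hx : ∀ v, Q (x v) = Q v)
include hx

theorem exists_sqrt_anticommute (hx2 : ∀ v, x (x v) = -v) (δ : F) (n : ℕ) :
    ∀ W : Submodule F V, Nd Q W → Module.finrank F W ≤ n → (∀ v ∈ W, x v ∈ W) →
      ∃ Y, SqrtOn Q δ W Y ∧ ∀ v, x (Y v) = -Y (x v) := by
  induction n with
  | zero =>
    intro W _ hWd _
    refine ⟨0, ⟨fun x => by simp, fun x y => by simp, fun w hw => ?_⟩, fun v => by simp⟩
    rw [Submodule.finrank_eq_zero.1 (Nat.le_zero.1 hWd)] at hw
    simp [(Submodule.mem_bot F).1 hw]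
  | succ n ih =>
    intro W hW hWd hinv
    rcases eq_or_ne W ⊥ with rfl | hne
    · exact ⟨0, ⟨fun x => by simp, fun x y => by simp, fun w hw => by simp [(Submodule.mem_bot F).1 hw]⟩,
        fun v => by simp⟩
    have hB : ∀ a b, polar ⇑Q (x a) (x b) = polar ⇑Q a b := fun a b => by simp [polar, ← map_add, hx]
    obtain ⟨u, huW, hu⟩ := exists_aniso h2 hW hne
    have hskew : ∀ a b, polar ⇑Q a (x b) = -polar ⇑Q (x a) b := fun a b => by
      rw [← hB a (x b), hx2, polar_neg_right]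
    have huw : polar ⇑Q u (x u) = 0 := by
      have h := hskew u u
      rw [polar_comm (⇑Q) (x u) u] at h
      exact (mul_eq_zero.1 (by linear_combination h : (2 : F) * polar ⇑Q u (x u) = 0)).resolve_left h2
    have hw : Q (x u) ≠ 0 := by rwa [hx]
    obtain ⟨hP, hPd⟩ := nd_span_pair h2 hu hw huw
    obtain ⟨hs, hW', hW'd⟩ := inner_split hP hW (Submodule.span_le.2 (by
      rintro z (rfl | rfl)
      · exact huW
      · exact hinv _ huW))
    obtain ⟨α, t, ht⟩ := exists_coeff h2 (mul_ne_zero hu hw) δ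
    obtain ⟨Y, hY, hYx⟩ := ih _ hW' (by omega) (fun v hv => ⟨hinv v hv.1, (mem_qperp Q).2 fun p hp => by
      obtain ⟨a, b, rfl⟩ := Submodule.mem_span_pair.1 hp
      have h := (mem_qperp Q).1 hv.2 (a • x u - b • u) (Submodule.mem_span_pair.2 ⟨-b, a, by module⟩)
      rw [hskew, map_add, map_smul, map_smul, hx2, smul_neg, ← sub_eq_add_neg, h, neg_zero]⟩)
    have hsum := (planeMap_sqrt h2 hu hw huw ht).add hQ inf_le_right hY
    rw [hs] at hsum
    refine ⟨_, hsum, fun v => ?_⟩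
    have h1 : x (planeMap Q u (x u) α t v) = -planeMap Q u (x u) α t (x v) := by
      simp only [planeMap_apply, map_add, map_sub, map_smul, hx2, hx, hskew u v, hB u v, smul_neg]
      module
    simp only [LinearMap.add_apply, map_add, h1, hYx]
    abel

/-- Twisting by a reflection gives the second class. -/
theorem exists_pair_anticommute (hx2 : ∀ v, x (x v) = -v) (δ : F) (hV : (⊤ : Submodule F V) ≠ ⊥) :
    ∃ (Y : V →ₗ[F] V) (w : V), SqrtOn Q δ ⊤ Y ∧ Q w ≠ 0 ∧ (∀ v, x (Y v) = -Y (x v)) ∧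
      ∀ Y' : V →ₗ[F] V, (∀ z, Y' (z - ((Q w)⁻¹ * polar ⇑Q w z) • w) = Y z - ((Q w)⁻¹ * polar ⇑Q w (Y z)) • w) →
        ∀ v, x (Y' v) = -Y' (x v) := by
  have hB : ∀ a b, polar ⇑Q (x a) (x b) = polar ⇑Q a b := fun a b => by simp [polar, ← map_add, hx]
  have hskew : ∀ a b, polar ⇑Q a (x b) = -polar ⇑Q (x a) b := fun a b => by
    rw [← hB a (x b), hx2, polar_neg_right]
  obtain ⟨u, -, hu⟩ := exists_aniso h2 (nd_top Q hQ) hV
  have huw : polar ⇑Q u (x u) = 0 := by
    have h := hskew u u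
    rw [polar_comm (⇑Q) (x u) u] at h
    exact (mul_eq_zero.1 (by linear_combination h : (2 : F) * polar ⇑Q u (x u) = 0)).resolve_left h2
  have hw : Q (x u) ≠ 0 := by rwa [hx]
  obtain ⟨hP, hPd⟩ := nd_span_pair h2 hu hw huw
  obtain ⟨hs, hW', -⟩ := inner_split hP (nd_top Q hQ) le_top
  obtain ⟨α, t, ht⟩ := exists_coeff h2 (mul_ne_zero hu hw) δ
  obtain ⟨Y₂, hY₂, hY₂x⟩ := exists_sqrt_anticommute h2 hQ hx hx2 δ _ _ hW' le_rfl (fun v hv => ⟨trivial, (mem_qperp Q).2 fun p hp => by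
    obtain ⟨a, b, rfl⟩ := Submodule.mem_span_pair.1 hp
    have h := (mem_qperp Q).1 hv.2 (a • x u - b • u) (Submodule.mem_span_pair.2 ⟨-b, a, by module⟩)
    rw [hskew, map_add, map_smul, map_smul, hx2, smul_neg, ← sub_eq_add_neg, h, neg_zero]⟩)
  have hanti : ∀ (t : F) (v : V), x ((planeMap Q u (x u) α t + Y₂) v) =
      -(planeMap Q u (x u) α t + Y₂) (x v) := by
    intro t v
    have h1 : x (planeMap Q u (x u) α t v) = -planeMap Q u (x u) α t (x v) := by
      simp only [planeMap_apply, map_add, map_sub, map_smul, hx2, hx, hskew u v, hB u v, smul_neg]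
      module
    simp only [LinearMap.add_apply, map_add, h1, hY₂x]
    abel
  have hsum := (planeMap_sqrt h2 hu hw huw ht).add hQ inf_le_right hY₂
  rw [hs] at hsum
  refine ⟨_, x u, hsum, hw, hanti t, fun Y' hY' => ?_⟩
  suffices h : Y' = planeMap Q u (x u) α (-t) + Y₂ by rw [h]; exact hanti (-t)
  refine LinearMap.ext fun z => ?_
  have hk : ((Q (x u))⁻¹ * polar ⇑Q (x u) (x u)) = 2 := by
    rw [polar_self, two_nsmul, ← two_mul]; field_simp
  set z' := z - ((Q (x u))⁻¹ * polar ⇑Q (x u) z) • x u with hz'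
  have hBz' : polar ⇑Q (x u) z' = -polar ⇑Q (x u) z := by
    rw [hz', polar_sub_right, polar_smul_right, smul_eq_mul, mul_right_comm, hk]; ring
  have hzz : z' - ((Q (x u))⁻¹ * polar ⇑Q (x u) z') • x u = z := by
    rw [hBz', hz']; module
  have e := hY' z'
  rw [hzz] at e
  rw [e]
  have hY2w : Y₂ (x u) = 0 := hY₂.zero_of_perp hQ ((mem_qperp Q).2 fun p hp => by
    rw [polar_comm]; exact (mem_qperp Q).1 hp.2 _ (Submodule.subset_span (by simp)))
  have hY2z : polar ⇑Q (x u) (Y₂ z') = 0 :=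
    (mem_qperp Q).1 (hY₂.mem z').2 _ (Submodule.subset_span (by simp))
  have hBu : polar ⇑Q u z' = polar ⇑Q u z := by
    rw [hz', polar_sub_right, polar_smul_right, huw, smul_zero, sub_zero]
  have hP' : polar ⇑Q (x u) (planeMap Q u (x u) α t z') =
      (2 * Q u)⁻¹ * polar ⇑Q u z * (Q u * t * (2 * Q (x u))) +
        (2 * Q (x u))⁻¹ * (-polar ⇑Q (x u) z) * (-α * (2 * Q (x u))) := by
    simp only [planeMap_apply, polar_add_right, polar_sub_right, polar_smul_right, smul_eq_mul, hBu, hBz',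
      polar_comm (⇑Q) (x u) u, huw, polar_self, two_nsmul]
    ring
  have hY2e : Y₂ z' = Y₂ z := by rw [hz', map_sub, map_smul, hY2w, smul_zero, sub_zero]
  rw [LinearMap.add_apply, LinearMap.add_apply, polar_add_right, hY2z, add_zero, hY2e, hP', planeMap_apply,
    planeMap_apply, hBu, hBz']
  match_scalars <;> field_simp <;> ring

omit hx in
/-- An involution with even-dimensional eigenspaces. -/
theorem exists_pair_commute (hx : ∀ v, Q (x v) = Q v) (hx2 : x ^ 2 = 1) (δ : F)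
    (hm : Even (Module.finrank F (movS x))) (hV : Even (Module.finrank F V)) (hf : fixS x ≠ ⊥) :
    ∃ (Y : V →ₗ[F] V) (w : V), SqrtOn Q δ ⊤ Y ∧ Q w ≠ 0 ∧ (∀ v, x (Y v) = Y (x v)) ∧
      ∀ Y' : V →ₗ[F] V, (∀ z, Y' (z - ((Q w)⁻¹ * polar ⇑Q w z) • w) = Y z - ((Q w)⁻¹ * polar ⇑Q w (Y z)) • w) →
        ∀ v, x (Y' v) = Y' (x v) := by
  have h20 : ((2 : ℕ) : F) ≠ 0 := by simpa using h2
  obtain ⟨hfn, hmn, hfq⟩ := qperp_fixS hx hx2 h20 hQ
  have hd := Submodule.finrank_add_eq_of_isCompl (isCompl_fixS_movS hx2 h20)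
  obtain ⟨b, hb⟩ := hm
  obtain ⟨c, hc⟩ := hV
  obtain ⟨Y₁, h₁⟩ := exists_sqrt h2 hQ δ (c - b) (fixS x) hfn (by omega)
  obtain ⟨Y₂, h₂'⟩ := exists_sqrt h2 hQ δ b (movS x) hmn (by omega)
  have hxx : ∀ v, x (x v) = v := fun v => LinearEquiv.congr_fun ((_root_.sq x).symm.trans hx2) v
  have hneg : ∀ v ∈ movS x, x v = -v := by
    rintro _ ⟨u, rfl⟩
    simp [hxx]
  have hsum := h₁.add hQ hfq.ge h₂'
  rw [(isCompl_fixS_movS hx2 h20).sup_eq_top] at hsum
  have hcomm : ∀ v, x ((Y₁ + Y₂) v) = (Y₁ + Y₂) (x v) := by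
    intro v
    obtain ⟨a, ha, e, he, rfl⟩ := Submodule.mem_sup.1
      ((isCompl_fixS_movS hx2 h20).sup_eq_top.symm ▸ Submodule.mem_top : v ∈ fixS x ⊔ movS x)
    have he' : e ∈ qperp Q (fixS x) := hfq.symm ▸ he
    have ha' : a ∈ qperp Q (movS x) := (mem_qperp Q).2 fun m hm => by
      rw [polar_comm]; exact fixS_perp_movS hx ha hm
    simp only [LinearMap.add_apply, map_add, hneg e he, mem_fixS.1 ha, map_neg, h₁.zero_of_perp hQ he',
      h₂'.zero_of_perp hQ ha', mem_fixS.1 (h₁.mem a), hneg _ (h₂'.mem e), add_zero, zero_add, map_zero, neg_zero]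
  obtain ⟨w, hw, hw0⟩ := exists_aniso h2 hfn hf
  refine ⟨_, w, hsum, hw0, hcomm, fun Y' hY' v => ?_⟩
  set R : V → V := fun z => z - ((Q w)⁻¹ * polar ⇑Q w z) • w
  have hR : ∀ z, R (R z) = z := fun z => by
    have hk : (Q w)⁻¹ * polar ⇑Q w w = 2 := by
      rw [polar_self, two_nsmul, ← two_mul]; field_simp
    simp only [R, polar_sub_right, polar_smul_right, smul_eq_mul]
    match_scalars <;> first
      | ring1
      | linear_combination ((Q w)⁻¹ * polar ⇑Q w z) * hk
      | linear_combination -((Q w)⁻¹ * polar ⇑Q w z) * hk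
  have hxR : ∀ z, x (R z) = R (x z) := fun z => by
    simp only [R, map_sub, map_smul, mem_fixS.1 hw]
    have : polar ⇑Q w z = polar ⇑Q w (x z) := by rw [← polar_e hx w z, mem_fixS.1 hw]
    rw [this]
  rw [← hR v, hxR (R v)]
  show x (Y' (R (R v))) = Y' (R (x (R v)))
  erw [hY', hY']
  exact (hxR _).trans (congrArg R (hcomm _))

end Finite

end Cfsg.Agent.Lib.OrthExtDerange
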