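import Mathlib
import Cfsg.Agent.Lib.OrthExtDerange.Exist
import Cfsg.Agent.Lib.OrthPrime.Poly
import Cfsg.Agent.Lib.OrthPrime.Blocks
import Cfsg.Agent.Lib.OrthPrime.Sub

/-!
Isometries of odd prime order and self-adjoint square roots of a non-square scalar commuting with them.
-/

set_option autoImplicit false
set_option linter.unusedSectionVars false

namespace Cfsg.Agent.Lib.OrthExtDerange

open QuadraticMap OrthPrime Polynomial
open scoped _root_.Classical

universe u

variable {F : Type u} [Field F]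
variable {V : Type u} [AddCommGroup V] [Module F V]
variable {Q : QuadraticForm F V} {e : V ≃ₗ[F] V}

theorem pE_of_fixed {v : V} (hv : e v = v) (f : F[X]) : pE e f v = f.eval 1 • v := by
  induction f using Polynomial.induction_on' with
  | add a b ha hb => rw [pE_add, ha, hb, eval_add, add_smul]
  | monomial k c =>
    rw [← C_mul_X_pow_eq_monomial, pE_mul, pE_C, pE_X_pow, pow_apply_of_fixed hv]
    simp

theorem pE_comm_of_commute {g : V →ₗ[F] V} (hg : ∀ v, g (e v) = e (g v)) (f : F[X]) (v : V) :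
    g (pE e f v) = pE e f (g v) := by
  have hk : ∀ (k : ℕ) (v : V), g ((e ^ k) v) = (e ^ k) (g v) := by
    intro k
    induction k with
    | zero => intro v; rfl
    | succ k ih => intro v; rw [pow_succ', LinearEquiv.mul_apply, LinearEquiv.mul_apply, hg, ih]
  induction f using Polynomial.induction_on' with
  | add a b ha hb => rw [pE_add, pE_add, map_add, ha, hb]
  | monomial k c => rw [← C_mul_X_pow_eq_monomial, pE_mul, pE_mul, pE_C, pE_C, pE_X_pow, pE_X_pow, map_smul, hk]

theorem polar_pE (hQe : ∀ v, Q (e v) = Q v) (f : F[X]) (u w : V) :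
    polar ⇑Q (pE e f u) w = polar ⇑Q u (pE e.symm f w) := by
  induction f using Polynomial.induction_on' generalizing u w with
  | add a b ha hb => rw [pE_add, pE_add, polar_add_left, polar_add_right, ha, hb]
  | monomial k c =>
    rw [← C_mul_X_pow_eq_monomial, pE_mul, pE_mul, pE_C, pE_C, polar_smul_left, polar_smul_right, pE_X_pow,
      pE_X_pow]
    congr 1
    induction k generalizing u w with
    | zero => rfl
    | succ k ih =>
      rw [pow_succ', LinearEquiv.mul_apply, pow_succ, LinearEquiv.mul_apply]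
      conv_lhs => rw [← e.apply_symm_apply w, polar_e hQe]
      exact ih u (e.symm w)

variable [FiniteDimensional F V] [Fintype F] (h2 : (2 : F) ≠ 0) {δ : F} (hδ : ¬ IsSquare δ)
include h2 hδ

theorem delta_pow (h : ℕ) : ∀ k : ℕ, Fintype.card F ^ h = 2 * k + 1 → δ ^ k = (-1) ^ h := by
  have hchar : ringChar F ≠ 2 := fun e => h2 (by
    have h' : ((2 : ℕ) : F) = 0 := (ringChar.spec F 2).2 (by rw [e])
    simpa using h')
  have hδ0 : δ ≠ 0 := fun h => hδ (h ▸ IsSquare.zero)
  have hhalf : δ ^ (Fintype.card F / 2) = -1 :=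
    (FiniteField.pow_dichotomy hchar hδ0).resolve_left fun h1 => hδ ((FiniteField.isSquare_iff hchar hδ0).2 h1)
  obtain ⟨j, hj⟩ : Odd (Fintype.card F) :=
    Nat.odd_iff.2 (FiniteField.odd_card_of_char_ne_two hchar)
  induction h with
  | zero => intro k hk; rw [pow_zero] at hk; rw [show k = 0 by omega, pow_zero, pow_zero]
  | succ h ih =>
    intro k hk
    obtain ⟨l, hl⟩ : Odd (Fintype.card F ^ h) := Odd.pow ⟨j, hj⟩
    have hk' : k = Fintype.card F * l + Fintype.card F / 2 := by
      rw [pow_succ, hl] at hk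
      have : (2 * l + 1) * Fintype.card F = 2 * (Fintype.card F * l) + Fintype.card F := by ring
      omega
    rw [hk', pow_add, hhalf, mul_comm (Fintype.card F) l, pow_mul, FiniteField.pow_card, ih l hl, pow_succ]

variable {r : ℕ} [Fact r.Prime] (her : e ^ r = 1)
include her

/-- `a(e⁻¹) = (-1)^h a(e)` where `a(e)² = δ`. -/
theorem pE_symm_sqrt {h : ℕ} (hneg : (Fintype.card F : ZMod r) ^ h = -1) (a : F[X]) {v : V}
    (hv : pE e a (pE e a v) = δ • v) : pE e.symm a v = ((-1 : F) ^ h) • pE e a v := by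
  have hpos : 0 < Fintype.card F ^ h := pow_pos Fintype.card_pos h
  have hd : r ∣ Fintype.card F ^ h + 1 := by
    rw [← ZMod.natCast_eq_zero_iff, Nat.cast_add, Nat.cast_pow, hneg, Nat.cast_one, neg_add_cancel]
  obtain ⟨j, hj⟩ := hd
  have he : e ^ Fintype.card F ^ h = e.symm := by
    have h1 : e ^ (Fintype.card F ^ h + 1) = 1 := by rw [hj, pow_mul, her, one_pow]
    rw [pow_succ] at h1
    exact eq_inv_of_mul_eq_one_left h1
  have hcoe : ∀ k : ℕ, ((e ^ k : V ≃ₗ[F] V).toLinearMap : Module.End F V) = (e.toLinearMap : Module.End F V) ^ k := by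
    intro k
    induction k with
    | zero => rfl
    | succ k ih => rw [pow_succ, pow_succ, ← ih]; rfl
  have hfold : pE e.symm a = pE e a ^ Fintype.card F ^ h := by
    rw [pE, ← he, hcoe, aeval_pow_card]
  have hchar : ringChar F ≠ 2 := fun e => h2 (by
    have h' : ((2 : ℕ) : F) = 0 := (ringChar.spec F 2).2 (by rw [e])
    simpa using h')
  obtain ⟨k, hk⟩ : Odd (Fintype.card F ^ h) :=
    Odd.pow (Nat.odd_iff.2 (FiniteField.odd_card_of_char_ne_two hchar))
  have hpow : ∀ m : ℕ, ((pE e a) ^ (2 * m + 1)) v = δ ^ m • pE e a v := by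
    intro m
    induction m with
    | zero => simp
    | succ m ih =>
      rw [show 2 * (m + 1) + 1 = 2 * m + 1 + 1 + 1 by ring, pow_succ', pow_succ', Module.End.mul_apply,
        Module.End.mul_apply, ih, map_smul, hv, map_smul, map_smul, smul_smul, pow_succ]
  rw [hfold, hk, hpow, delta_pow h2 hδ h k hk]

variable (hr0 : (r : F) ≠ 0)
include hr0

/-- A square root of `δ` in the polynomials in `e` on the moved space. -/
theorem exists_poly_sqrt (hev : Even (orderOf (Fintype.card F : ZMod r))) :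
    ∃ a : F[X], ∀ v ∈ movS e, pE e a (pE e a v) = δ • v := by
  have hp : ∀ p ∈ classes F r, ∃ a : F[X], p ∣ a * a - C δ := by
    intro p hp
    haveI := Fact.mk (irreducible_of_mem hp)
    haveI := (monic_of_mem hp).finite_adjoinRoot
    haveI : Finite (AdjoinRoot p) := Module.finite_of_finite F
    haveI := Fintype.ofFinite (AdjoinRoot p)
    have hne : p ≠ 0 := (irreducible_of_mem hp).ne_zero
    have hcard : Fintype.card (AdjoinRoot p) = Fintype.card F ^ orderOf (Fintype.card F : ZMod r) := by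
      rw [← natDegree_of_mem hr0 hp, ← Nat.card_eq_fintype_card, Module.natCard_eq_pow_finrank (K := F),
        Nat.card_eq_fintype_card, (AdjoinRoot.powerBasis hne).finrank, AdjoinRoot.powerBasis_dim]
    have hchar : ringChar F ≠ 2 := fun e => h2 (by
      have h' : ((2 : ℕ) : F) = 0 := (ringChar.spec F 2).2 (by rw [e])
      simpa using h')
    have hcharL : ringChar (AdjoinRoot p) ≠ 2 := by
      rwa [← Algebra.ringChar_eq F (AdjoinRoot p)]
    have hδ0 : δ ≠ 0 := fun h => hδ (h ▸ IsSquare.zero)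
    obtain ⟨k, hk⟩ : Odd (Fintype.card F ^ orderOf (Fintype.card F : ZMod r)) :=
      Odd.pow (Nat.odd_iff.2 (FiniteField.odd_card_of_char_ne_two hchar))
    have hsq : IsSquare (algebraMap F (AdjoinRoot p) δ) := by
      rw [FiniteField.isSquare_iff hcharL (by simpa using hδ0), hcard, hk,
        show (2 * k + 1) / 2 = k by omega, ← map_pow, delta_pow h2 hδ _ k hk, hev.neg_one_pow, map_one]
    obtain ⟨s, hs⟩ := hsq
    obtain ⟨a, rfl⟩ := AdjoinRoot.mk_surjective s
    refine ⟨a, AdjoinRoot.mk_eq_zero.1 ?_⟩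
    rw [map_sub, map_mul, AdjoinRoot.mk_C, ← hs, AdjoinRoot.algebraMap_eq, sub_self]
  obtain ⟨a, ha⟩ : ∃ a : F[X], ∀ p ∈ classes F r, p ∣ a * a - C δ := by
    suffices h : ∀ s : Finset F[X], s ⊆ classes F r → ∃ a : F[X], ∀ p ∈ s, p ∣ a * a - C δ from h _ subset_rfl
    intro s
    induction s using Finset.induction_on with
    | empty => exact fun _ => ⟨0, by simp⟩
    | insert p s hps ih =>
      intro hsub
      obtain ⟨hpc, hsc⟩ := Finset.insert_subset_iff.1 hsub
      obtain ⟨a, ha⟩ := ih hsc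
      obtain ⟨b, hb⟩ := hp p hpc
      obtain ⟨x, y, hxy⟩ : IsCoprime p (∏ q ∈ s, q) := IsCoprime.prod_right fun q hq =>
        isCoprime_of_mem hpc (hsc hq) fun e => hps (e ▸ hq)
      refine ⟨a * (x * p) + b * (y * ∏ q ∈ s, q), fun q hq => ?_⟩
      rcases Finset.mem_insert.1 hq with rfl | hq
      · have : (a * (x * q) + b * (y * ∏ q ∈ s, q)) = b + q * (x * (a - b)) := by
          linear_combination b * hxy
        rw [this, show (b + q * (x * (a - b))) * (b + q * (x * (a - b))) - C δ =
          (b * b - C δ) + q * (x * (a - b) * (2 * b + q * (x * (a - b)))) by ring]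
        exact dvd_add hb (dvd_mul_right _ _)
      · obtain ⟨c, hc⟩ : q ∣ ∏ q ∈ s, q := Finset.dvd_prod_of_mem _ hq
        have : (a * (x * p) + b * (y * ∏ q ∈ s, q)) = a + q * (c * y * (b - a)) := by
          linear_combination a * hxy + (y * (b - a)) * hc
        rw [this, show (a + q * (c * y * (b - a))) * (a + q * (c * y * (b - a))) - C δ =
          (a * a - C δ) + q * (c * y * (b - a) * (2 * a + q * (c * y * (b - a)))) by ring]
        exact dvd_add (ha q hq) (dvd_mul_right _ _)
  refine ⟨a, fun v hv => ?_⟩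
  have hdiv : cyclotomic r F ∣ a * a - C δ :=
    (prod_classes hr0).dvd_iff_dvd_left.1 (Finset.prod_dvd_of_coprime
      (fun p hp p' hp' h => isCoprime_of_mem hp hp' h) ha)
  obtain ⟨c, hc⟩ := hdiv
  have h0 : pE e (a * a - C δ) v = 0 := by
    rw [hc, mul_comm, pE_mul, pE_cyclotomic_mov her hv, map_zero]
  rw [← pE_mul, ← sub_eq_zero, ← pE_C e δ v]
  simpa [pE] using h0

variable (hr2 : r ≠ 2) (hQ : (polarBilin Q).Nondegenerate) (hQe : ∀ v, Q (e v) = Q v)
include hQe hQ hr2

/-- The map given by a polynomial on the moved space, for `4 ∣ i`. -/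
theorem exists_mov_sqrt (h4 : 4 ∣ orderOf (Fintype.card F : ZMod r)) :
    ∃ Y : V →ₗ[F] V, SqrtOn Q δ (movS e) Y ∧
      ∀ g : V →ₗ[F] V, (∀ v, g (e v) = e (g v)) → ∀ v, g (Y v) = Y (g v) := by
  obtain ⟨l, hl⟩ := h4
  have hev : Even (orderOf (Fintype.card F : ZMod r)) := by rw [hl]; exact ⟨2 * l, by ring⟩
  obtain ⟨a, ha⟩ := exists_poly_sqrt h2 hδ her hr0 hev
  set m : F[X] := 1 - C (r : F)⁻¹ * cyclotomic r F
  have hm : ∀ x ∈ fixS e, ∀ y ∈ movS e, pE e m (x + y) = y := by
    intro x hx y hy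
    have hy' : pE e m y = y := by
      have h := pE_cyclotomic_mov her hy
      simp only [m, pE, map_sub, map_one, map_mul, LinearMap.sub_apply, Module.End.one_apply, Module.End.mul_apply]
      rw [show ((aeval e.toLinearMap) (cyclotomic r F)) y = 0 from h, map_zero, sub_zero]
    rw [map_add, hy', pE_of_fixed (mem_fixS.1 hx), eval_sub, eval_one, eval_mul, eval_C, eval_one_cyclotomic_prime,
      inv_mul_cancel₀ hr0, sub_self, zero_smul, zero_add]
  have hc := isCompl_fixS_movS her hr0
  have hrep : ∀ v, ∃ x ∈ fixS e, ∃ y ∈ movS e, v = x + y := fun v => by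
    obtain ⟨x, hx, y, hy, h⟩ := Submodule.mem_sup.1 (hc.sup_eq_top.symm ▸ Submodule.mem_top : v ∈ fixS e ⊔ movS e)
    exact ⟨x, hx, y, hy, h.symm⟩
  have hY : ∀ x ∈ fixS e, ∀ y ∈ movS e, pE e (a * m) (x + y) = pE e a y := fun x hx y hy => by
    rw [pE_mul, hm x hx y hy]
  have hmem : ∀ y ∈ movS e, pE e a y ∈ movS e := fun y hy => pE_mem e inv_movS a hy
  refine ⟨pE e (a * m), ⟨fun v => ?_, fun v w => ?_, fun y hy => ?_⟩, fun g hg v => pE_comm_of_commute hg _ v⟩
  · obtain ⟨x, hx, y, hy, rfl⟩ := hrep v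
    rw [hY x hx y hy]
    exact hmem y hy
  · obtain ⟨x, hx, y, hy, rfl⟩ := hrep v
    obtain ⟨x', hx', y', hy', rfl⟩ := hrep w
    rw [hY x hx y hy, hY x' hx' y' hy', polar_add_right, polar_add_left, polar_comm (⇑Q) (pE e a y) x',
      fixS_perp_movS hQe hx' (hmem y hy), fixS_perp_movS hQe hx (hmem y' hy'), zero_add, zero_add, polar_pE hQe,
      pE_symm_sqrt h2 hδ her (q_pow_half hev hr0) a (ha y' hy'), hl, show 4 * l / 2 = 2 * l by omega,
      pow_mul, neg_one_sq, one_pow, one_smul]
  · have h1 := hY 0 (zero_mem _) y hy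
    rw [zero_add] at h1
    have h3 := hY 0 (zero_mem _) _ (hmem y hy)
    rw [zero_add] at h3
    rw [h1, h3, ha y hy]

/-- No such map commutes with one irreducible block when `i ≡ 2 (mod 4)`. -/
theorem not_commute_block {Y : V →ₗ[F] V} (hY : SqrtOn Q δ ⊤ Y) (hc : ∀ v, Y (e v) = e (Y v))
    (hev : Even (orderOf (Fintype.card F : ZMod r))) (hhalf : Odd (orderOf (Fintype.card F : ZMod r) / 2))
    (hmd : Module.finrank F (movS e) = orderOf (Fintype.card F : ZMod r)) : False := by
  have hi : 0 < orderOf (Fintype.card F : ZMod r) := orderOf_pos' hr0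
  have hmne : movS e ≠ ⊥ := fun h => by rw [h, finrank_bot] at hmd; omega
  obtain ⟨-, hmn, -⟩ := qperp_fixS hQe her hr0 hQ
  obtain ⟨p, hp, u, hu, hu0, hpu⟩ := exists_class_mem her hr0 inv_movS le_rfl hmne
  have hcyc : cyc e u = movS e := Submodule.eq_of_le_of_finrank_eq (cyc_le e inv_movS hu)
    (by rw [finrank_cyc e (irreducible_of_mem hp) hu0 hpu (monic_of_mem hp), natDegree_of_mem hr0 hp, hmd])
  have hYmem : ∀ v ∈ movS e, Y v ∈ movS e := by
    rintro _ ⟨v, rfl⟩
    exact ⟨Y v, by simp [hc]⟩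
  obtain ⟨a, ha⟩ := (mem_cyc e).1 (hcyc.symm ▸ hYmem u hu : Y u ∈ cyc e u)
  have hYa : ∀ w ∈ movS e, Y w = pE e a w := by
    intro w hw
    obtain ⟨b, rfl⟩ := (mem_cyc e).1 (hcyc.symm ▸ hw : w ∈ cyc e u)
    rw [pE_comm_of_commute hc, ← ha, ← pE_mul, ← pE_mul, mul_comm]
  have hsq : pE e a (pE e a u) = δ • u := by
    rw [ha, ← hYa _ (hYmem u hu), hY.sq']
  have hsymm := pE_symm_sqrt h2 hδ her (q_pow_half hev hr0) a hsq
  rw [hhalf.neg_one_pow, neg_one_smul] at hsymm
  have hmem : pE e a u ∈ movS e := pE_mem e inv_movS a hu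
  have hzero : pE e a u = 0 := hmn _ hmem fun w hw => by
    have h1 : polar ⇑Q (pE e a u) w = polar ⇑Q u (Y w) := by rw [ha, hY.sa]
    have h3 : polar ⇑Q u (Y w) = -polar ⇑Q (pE e a u) w := by
      rw [hYa w hw, ← polar_neg_left, ← hsymm, polar_comm (⇑Q) (pE e.symm a u) w, ← polar_pE hQe, polar_comm]
    exact (mul_eq_zero.1 (by linear_combination h1 + h3 : (2 : F) * polar ⇑Q (pE e a u) w = 0)).resolve_left h2
  rw [hzero, map_zero] at hsq
  exact hδ (((smul_eq_zero.1 hsq.symm).resolve_right hu0).symm ▸ IsSquare.zero)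

/-- No map squaring to a non-square scalar commutes with an element having a component of odd dimension. -/
theorem not_commute_odd {Y : V →ₗ[F] V} (hY : ∀ v, Y (Y v) = δ • v) (hc : ∀ v, Y (e v) = e (Y v))
    (hi : Odd (orderOf (Fintype.card F : ZMod r)))
    (hmd : Module.finrank F (movS e) = 2 * orderOf (Fintype.card F : ZMod r)) : False := by
  have hipos : 0 < orderOf (Fintype.card F : ZMod r) := orderOf_pos' hr0
  have hmne : movS e ≠ ⊥ := fun h => by rw [h, finrank_bot] at hmd; omega
  obtain ⟨-, hmn, -⟩ := qperp_fixS hQe her hr0 hQ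
  obtain ⟨p, hp, u, hu, hu0, hpu⟩ := exists_class_mem her hr0 inv_movS le_rfl hmne
  set U := movS e ⊓ LinearMap.ker (pE e p)
  have hUinv : Inv e U := inv_movS.inf (inv_ker e p)
  have hts : ∀ w ∈ U, Q w = 0 := by
    rintro w ⟨hwm, hwp⟩
    rcases eq_or_ne w 0 with rfl | hw0
    · exact map_zero Q
    by_contra hne
    have hfd := finrank_cyc e (irreducible_of_mem hp) hw0 hwp (monic_of_mem hp)
    rw [natDegree_of_mem hr0 hp] at hfd
    set C := cyc e w
    have hCm : C ≤ movS e := cyc_le e inv_movS hwm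
    have hnd : Nd Q C := by
      intro x hx hperp
      by_contra hx0
      have heq := cyc_eq_of_mem e (irreducible_of_mem hp) hw0 hwp (monic_of_mem hp) hx hx0
      have hrad : ∀ y ∈ C, ∀ z ∈ C, polar ⇑Q y z = 0 := by
        intro y hy z hz
        rw [← show cyc e x = C from heq] at hy
        obtain ⟨b, rfl⟩ := (mem_cyc e).1 hy
        rw [polar_pE hQe]
        exact hperp _ (pE_mem _ (fun t ht => by
          have h1 : (e ^ (r - 1)) t = e.symm t := by
            apply e.injective
            rw [LinearEquiv.apply_symm_apply, ← LinearEquiv.mul_apply, ← pow_succ',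
              Nat.sub_add_cancel (Fact.out : r.Prime).one_le, her]
            rfl
          rw [← h1]
          exact (inv_cyc e w).pow _ ht) b hz)
      exact hne (totallySingular_of_isotropic hQe her hr0 (inv_cyc e w) hCm hrad w (self_mem_cyc e w))
    have := even_finrank her hr0 hQe hr2 (inv_cyc e w) hCm hnd
    rw [hfd] at this
    exact (Nat.not_odd_iff_even.2 this) hi
  have hUne : U ≠ ⊥ := fun h => hu0 ((Submodule.mem_bot F).1 (h ▸ (⟨hu, hpu⟩ : u ∈ U)))
  have hUd : Module.finrank F U = orderOf (Fintype.card F : ZMod r) := by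
    obtain ⟨k, hk⟩ := orderOf_dvd_finrank her hr0 hUinv inf_le_left
    have hle : 2 * Module.finrank F U ≤ Module.finrank F (movS e) := by
      let U' : Submodule F (movS e) := U.comap (movS e).subtype
      have hU' : Module.finrank F U' = Module.finrank F U :=
        (Submodule.comapSubtypeEquivOfLe inf_le_left).finrank_eq
      have h := OrthPrime.ts_le_wIdx ((nd_iff Q _).2 hmn) (U := U') fun y hy => hts (y : V) hy
      unfold OrthPrime.wIdx at h
      split_ifs at h <;> omega
    have hk0 : k ≠ 0 := by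
      rintro rfl
      rw [mul_zero, Submodule.finrank_eq_zero] at hk
      exact hUne hk
    rcases Nat.lt_or_ge k 2 with hk2 | hk2
    · rw [hk, show k = 1 by omega, mul_one]
    · exfalso
      have := Nat.mul_le_mul_left (orderOf (Fintype.card F : ZMod r)) hk2
      omega
  have hYU : ∀ w ∈ U, Y w ∈ U := by
    rintro w ⟨⟨v, rfl⟩, hwp⟩
    refine ⟨⟨Y v, by simp [hc]⟩, ?_⟩
    show pE e p (Y _) = 0
    rw [← pE_comm_of_commute hc, show pE e p _ = 0 from hwp, map_zero]
  have hdet := congrArg LinearMap.det (show (Y.restrict hYU) * (Y.restrict hYU) = δ • (1 : Module.End F U) from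
    LinearMap.ext fun w => Subtype.ext (hY w))
  rw [map_mul, LinearMap.det_smul, map_one, mul_one, hUd] at hdet
  obtain ⟨k, hk⟩ := hi
  rw [hk, pow_succ, pow_mul] at hdet
  have hδ0 : δ ≠ 0 := fun h => hδ (h ▸ IsSquare.zero)
  refine hδ ⟨LinearMap.det (Y.restrict hYU) / δ ^ k, ?_⟩
  field_simp
  linear_combination -hdet

end Cfsg.Agent.Lib.OrthExtDerange
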