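import Mathlib
import Cfsg.Agent.Lib.OrthExtDerange.Odd

/-!
For `4 ∣ ord_r(q)` every `r`-group of isometries commutes with a self-adjoint square root of a non-square scalar.
-/

set_option autoImplicit false
set_option linter.unusedSectionVars false

namespace Cfsg.Agent.Lib.OrthExtDerange

open QuadraticMap OrthPrime
open scoped _root_.Classical

universe u

variable {F : Type u} [Field F] [Fintype F]
variable {V : Type u} [AddCommGroup V] [Module F V] [FiniteDimensional F V]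
variable {Q : QuadraticForm F V} {δ : F}

/-- For a `r`-group acting on `W`, an isometry of order `r` supported on `W` commuting with the group. -/
theorem exists_central {r : ℕ} [Fact r.Prime] (hQ : (polarBilin Q).Nondegenerate) {P : Subgroup (V ≃ₗ[F] V)}
    (hP : IsPGroup r P) (hPQ : ∀ g ∈ P, ∀ v, Q (g v) = Q v) {W : Submodule F V} (hW : Nd Q W)
    (hinv : ∀ g ∈ P, ∀ w ∈ W, g w ∈ W) (hne : ¬ ∀ g ∈ P, ∀ w ∈ W, g w = w) :
    ∃ e : V ≃ₗ[F] V, (∀ v, Q (e v) = Q v) ∧ e ^ r = 1 ∧ e ≠ 1 ∧ movS e ≤ W ∧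
      ∀ g ∈ P, ∀ v, g (e v) = e (g v) := by
  haveI : Finite V := Module.finite_of_finite F
  haveI : Finite (V ≃ₗ[F] V) := Finite.of_injective (fun g => (g : V → V)) DFunLike.coe_injective
  let N : Subgroup P :=
    { carrier := {g | ∀ w ∈ W, (g : V ≃ₗ[F] V) w = w}
      one_mem' := fun w _ => rfl
      mul_mem' := fun {a b} ha hb w hw => by
        show (a : V ≃ₗ[F] V) ((b : V ≃ₗ[F] V) w) = w
        rw [hb w hw, ha w hw]
      inv_mem' := fun {a} ha w hw => by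
        show (a : V ≃ₗ[F] V).symm w = w
        rw [LinearEquiv.symm_apply_eq, ha w hw] }
  haveI : N.Normal := ⟨fun n hn g w hw => by
    show (g : V ≃ₗ[F] V) ((n : V ≃ₗ[F] V) (((g⁻¹ : P) : V ≃ₗ[F] V) w)) = w
    rw [hn _ (hinv _ (g⁻¹).2 w hw)]
    exact (g : V ≃ₗ[F] V).apply_symm_apply w⟩
  haveI : Nontrivial (P ⧸ N) := by
    rw [QuotientGroup.nontrivial_iff]
    intro h
    exact hne fun g hg => (h ▸ Subgroup.mem_top _ : (⟨g, hg⟩ : P) ∈ N)
  have hPN : IsPGroup r (P ⧸ N) := hP.to_quotient N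
  haveI := hPN.center_nontrivial
  haveI := Fintype.ofFinite (Subgroup.center (P ⧸ N))
  obtain ⟨n, hn0, hn⟩ := (IsPGroup.nontrivial_iff_card (hPN.to_subgroup (Subgroup.center _))).1 inferInstance
  obtain ⟨zb, hzb⟩ := exists_prime_orderOf_dvd_card' (G := Subgroup.center (P ⧸ N)) r
    (by rw [hn]; exact dvd_pow_self _ hn0.ne')
  obtain ⟨z, hz⟩ := QuotientGroup.mk_surjective (zb : P ⧸ N)
  have hzr : z ^ r ∈ N := by
    rw [← QuotientGroup.eq_one_iff, QuotientGroup.mk_pow, hz, ← SubgroupClass.coe_pow, ← hzb, pow_orderOf_eq_one]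
    rfl
  have hzN : z ∉ N := by
    intro h
    rw [← QuotientGroup.eq_one_iff, hz] at h
    have : zb = 1 := Subtype.ext h
    rw [this, orderOf_one] at hzb
    exact (Fact.out : r.Prime).one_lt.ne hzb
  have hzc : ∀ g : P, ∀ w ∈ W, (g : V ≃ₗ[F] V) ((z : V ≃ₗ[F] V) w) = (z : V ≃ₗ[F] V) ((g : V ≃ₗ[F] V) w) := by
    intro g w hw
    have h : ((z * g : P) : P ⧸ N) = ((g * z : P) : P ⧸ N) := by
      rw [QuotientGroup.mk_mul, QuotientGroup.mk_mul, hz]
      exact (Subgroup.mem_center_iff.1 zb.2 _).symm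
    have h' := (QuotientGroup.eq.1 h) w hw
    change ((z * g : P) : V ≃ₗ[F] V).symm (((g * z : P) : V ≃ₗ[F] V) w) = w at h'
    rw [LinearEquiv.symm_apply_eq] at h'
    exact h'
  obtain ⟨zV, hzV⟩ : ∃ zV : W ≃ₗ[F] W, ∀ w : W, ((zV w : W) : V) = (z : V ≃ₗ[F] V) w := by
    let f : W →ₗ[F] W := (z : V ≃ₗ[F] V).toLinearMap.restrict fun w hw => hinv _ z.2 w hw
    have hf : Function.Injective f := fun a b h =>
      Subtype.ext ((z : V ≃ₗ[F] V).injective (congrArg Subtype.val h))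
    exact ⟨LinearEquiv.ofBijective f ⟨hf, Finite.surjective_of_injective hf⟩, fun w => rfl⟩
  let Φ := splitEquiv Q hW
  let e : V ≃ₗ[F] V := (Φ.symm.trans (zV.prodCongr (LinearEquiv.refl F _))).trans Φ
  have he : ∀ (a : W) (b : qperp Q W), e ((a : V) + b) = (z : V ≃ₗ[F] V) a + b := fun a b => by
    rw [← splitEquiv_apply Q hW (a, b)]
    show Φ ((zV.prodCongr (LinearEquiv.refl F _)) (Φ.symm (Φ (a, b)))) = _
    rw [Φ.symm_apply_apply]
    simp [Φ, splitEquiv_apply, hzV]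
  have hrep : ∀ v, ∃ (a : W) (b : qperp Q W), v = (a : V) + b := fun v =>
    ⟨(Φ.symm v).1, (Φ.symm v).2, by rw [← splitEquiv_apply Q hW, Φ.apply_symm_apply]⟩
  have hperp : ∀ g ∈ P, ∀ b ∈ qperp Q W, g b ∈ qperp Q W := fun g hg b hb => (mem_qperp Q).2 fun w hw => by
    have h := (mem_qperp Q).1 hb _ (hinv _ (inv_mem hg) w hw)
    have h' : polar ⇑Q (g (g⁻¹ w)) (g b) = polar ⇑Q (g⁻¹ w) b := polar_e (hPQ g hg) _ _
    rwa [show g (g⁻¹ w) = w from g.apply_symm_apply w, h] at h'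
  refine ⟨e, fun v => ?_, ?_, fun h1 => hzN fun w hw => ?_, ?_, fun g hg v => ?_⟩
  · obtain ⟨a, b, rfl⟩ := hrep v
    have h1 := (mem_qperp Q).1 b.2 _ a.2
    have h3 := (mem_qperp Q).1 b.2 _ (hinv _ z.2 a a.2)
    rw [he, QuadraticMap.map_add (⇑Q), QuadraticMap.map_add (⇑Q) (a : V), h1, h3, hPQ _ z.2]
  · have hk : ∀ (k : ℕ) (a : W) (b : qperp Q W), (e ^ k) ((a : V) + b) = ((z : V ≃ₗ[F] V) ^ k) (a : V) + b := by
      intro k
      induction k with
      | zero => intro a b; rfl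
      | succ k ih =>
        intro a b
        rw [pow_succ, LinearEquiv.mul_apply, he, pow_succ, LinearEquiv.mul_apply]
        exact ih ⟨_, hinv _ z.2 a a.2⟩ b
    refine LinearEquiv.ext fun v => ?_
    obtain ⟨a, b, rfl⟩ := hrep v
    rw [hk]
    have := hzr (a : V) a.2
    rw [SubgroupClass.coe_pow] at this
    rw [this]
    rfl
  · have := he ⟨w, hw⟩ 0
    rw [h1] at this
    simpa using this.symm
  · rintro _ ⟨v, rfl⟩
    obtain ⟨a, b, rfl⟩ := hrep v
    show e ((a : V) + b) - ((a : V) + b) ∈ W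
    rw [he, add_sub_add_right_eq_sub]
    exact sub_mem (hinv _ z.2 a a.2) a.2
  · obtain ⟨a, b, rfl⟩ := hrep v
    rw [he, map_add, map_add, hzc ⟨g, hg⟩ a a.2]
    exact (he ⟨_, hinv g hg a a.2⟩ ⟨_, hperp g hg b b.2⟩).symm

/-- The commuting square root. -/
theorem exists_commute_pgroup {r : ℕ} [Fact r.Prime] (hr0 : (r : F) ≠ 0) (hr2 : r ≠ 2)
    (h4 : 4 ∣ orderOf (Fintype.card F : ZMod r)) (h2 : (2 : F) ≠ 0) (hδ : ¬ IsSquare δ)
    (hQ : (polarBilin Q).Nondegenerate) {P : Subgroup (V ≃ₗ[F] V)} (hP : IsPGroup r P)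
    (hPQ : ∀ g ∈ P, ∀ v, Q (g v) = Q v) (n : ℕ) :
    ∀ W : Submodule F V, Nd Q W → Module.finrank F W ≤ n → Even (Module.finrank F W) →
      (∀ g ∈ P, ∀ w ∈ W, g w ∈ W) → ∃ Y, SqrtOn Q δ W Y ∧ ∀ g ∈ P, ∀ v, g (Y v) = Y (g v) := by
  induction n using Nat.strong_induction_on with
  | _ n ih =>
    intro W hW hWn hWe hinv
    by_cases hfix : ∀ g ∈ P, ∀ w ∈ W, g w = w
    · obtain ⟨k, hk⟩ := hWe
      obtain ⟨Y, hY⟩ := exists_sqrt h2 hQ δ k W hW (by omega)
      refine ⟨Y, hY, fun g hg v => ?_⟩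
      have : Y (g v - v) = 0 := hY.zero_of_perp hQ ((mem_qperp Q).2 fun w hw => by
        have h : polar ⇑Q (g w) (g v) = polar ⇑Q w v := polar_e (hPQ g hg) _ _
        rw [hfix g hg w hw] at h
        rw [polar_sub_right, h, sub_self])
      rw [map_sub, sub_eq_zero] at this
      rw [this]
      exact hfix g hg _ (hY.mem v)
    · obtain ⟨e, hQe, her, hne, hmW, hcomm⟩ := exists_central hQ hP hPQ hW hinv hfix
      obtain ⟨Y₁, hY₁, hY₁c⟩ := exists_mov_sqrt h2 hδ her hr0 hr2 hQ hQe h4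
      obtain ⟨-, hmn, -⟩ := qperp_fixS hQe her hr0 hQ
      obtain ⟨hs, hW', hW'd⟩ := inner_split hmn hW hmW
      have hm0 : 0 < Module.finrank F (movS e) := by
        refine Nat.pos_of_ne_zero fun h => hne (LinearEquiv.ext fun v => ?_)
        have := sub_mem_movS (e := e) v
        rw [Submodule.finrank_eq_zero.1 h, Submodule.mem_bot, sub_eq_zero] at this
        exact this
      have hme : Even (Module.finrank F (movS e)) := even_finrank her hr0 hQe hr2 inv_movS le_rfl hmn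
      obtain ⟨Y₂, hY₂, hY₂c⟩ := ih (Module.finrank F ↥(W ⊓ qperp Q (movS e))) (by omega) _ hW' le_rfl
        (by obtain ⟨a, ha⟩ := hWe; obtain ⟨b, hb⟩ := hme; exact ⟨a - b, by omega⟩)
        (fun g hg w hw => ⟨hinv g hg w hw.1, (mem_qperp Q).2 fun m hm => by
          obtain ⟨v, rfl⟩ := hm
          have h1 := (mem_qperp Q).1 hw.2 _ (sub_mem_movS (e := e) ((g⁻¹ : V ≃ₗ[F] V) v))
          have h' : polar ⇑Q (g (e (g⁻¹ v) - g⁻¹ v)) (g w) = polar ⇑Q (e (g⁻¹ v) - g⁻¹ v) w :=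
            polar_e (hPQ g hg) _ _
          rw [h1, map_sub, hcomm g hg, show g (g⁻¹ v) = v from g.apply_symm_apply v] at h'
          exact h'⟩)
      have hsum := hY₁.add hQ inf_le_right hY₂
      rw [hs] at hsum
      refine ⟨_, hsum, fun g hg v => ?_⟩
      simp only [LinearMap.add_apply, map_add]
      rw [hY₂c g hg v, show g (Y₁ v) = Y₁ (g v) from hY₁c g.toLinearMap (hcomm g hg) v]

end Cfsg.Agent.Lib.OrthExtDerange
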