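import Mathlib
import Cfsg.Prelude.Def_GeometricClasses
import Cfsg.Agent.Lib.OrthExtDerange.Sylow
import Cfsg.Agent.Lib.OrthPrime.Wrap
import Cfsg.Agent.Lib.OrthPrime.Model
import Cfsg.Agent.Lib.OrthPrime.Criteria

/-!
Elements of prime order and the normaliser in `Ω` of a quadratic extension field with self-adjoint elements.
-/

set_option autoImplicit false
set_option linter.unusedSectionVars false

namespace Cfsg.Agent.Lib.OrthExtDerange

open QuadraticMap OrthPrime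
open scoped _root_.Classical Matrix MatrixGroups

universe u

variable {F : Type u} [Field F] [Fintype F] {ι : Type} [Fintype ι] [DecidableEq ι]
variable {Q : QuadraticForm F (ι → F)} {δ : F}

theorem exists_generator (h2 : (2 : F) ≠ 0) (hQ : (polarBilin Q).Nondegenerate)
    {K : Subalgebra F (Matrix ι ι F)} (hK : Cfsg.Geo.IsFieldSubalgebra 2 K)
    (hKf : Cfsg.Geo.IsSelfAdjointFor (polar ⇑Q) K) :
    ∃ (δ : F) (y : Matrix ι ι F), ¬ IsSquare δ ∧ y * y = δ • (1 : Matrix ι ι F) ∧ y ∈ K ∧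
      (∀ k, k ∈ K ↔ ∃ a b : F, k = a • (1 : Matrix ι ι F) + b • y) ∧ SqrtOn Q δ ⊤ (Matrix.toLin' y) ∧
      ∀ c : F, y ≠ c • (1 : Matrix ι ι F) := by
  have h1K : (1 : Matrix ι ι F) ∈ Subalgebra.toSubmodule K := K.one_mem
  obtain ⟨k, hkK, hk⟩ : ∃ k ∈ K, ∀ c : F, k ≠ c • (1 : Matrix ι ι F) := by
    by_contra! h
    have hle : Subalgebra.toSubmodule K ≤ F ∙ (1 : Matrix ι ι F) := fun x hx => by
      obtain ⟨c, hc⟩ := h x hx
      exact hc ▸ Submodule.smul_mem _ c (Submodule.mem_span_singleton_self _)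
    have h' := Submodule.finrank_mono hle
    have h'' := finrank_span_le_card (R := F) ({1} : Set (Matrix ι ι F))
    have hf : Module.finrank F (Subalgebra.toSubmodule K) = 2 := hK.finrank_eq
    simp at h''
    omega
  have hli : LinearIndependent F ![(1 : Matrix ι ι F), k] := by
    refine LinearIndependent.pair_iff.2 fun s t hst => ?_
    by_cases ht : t = 0
    · subst ht
      refine ⟨?_, rfl⟩
      rw [zero_smul, add_zero, smul_eq_zero] at hst
      refine hst.resolve_right fun h => hk 0 ?_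
      rw [zero_smul, ← mul_one k, h, mul_zero]
    · exact absurd (by rw [← inv_smul_smul₀ ht k, eq_neg_of_add_eq_zero_right hst, smul_neg, smul_smul, neg_smul] :
        k = (-(t⁻¹ * s)) • (1 : Matrix ι ι F)) (hk _)
  have hspan : Submodule.span F {1, k} = Subalgebra.toSubmodule K := by
    refine Submodule.eq_of_le_of_finrank_eq (Submodule.span_le.2 ?_) ?_
    · rintro x (rfl | rfl)
      · exact K.one_mem
      · exact hkK
    · have h := finrank_span_eq_card hli
      rw [Matrix.range_cons_cons_empty, Fintype.card_fin] at h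
      rw [h]
      exact hK.finrank_eq.symm
  have hkk : k * k ∈ Subalgebra.toSubmodule K := K.mul_mem hkK hkK
  rw [← hspan] at hkk
  obtain ⟨a, b, hab⟩ := Submodule.mem_span_pair.1 hkk
  set y : Matrix ι ι F := k - (b / 2) • (1 : Matrix ι ι F) with hy
  set δ : F := a + b ^ 2 / 4 with hδd
  have hyK : y ∈ K := sub_mem hkK (K.smul_mem K.one_mem _)
  have hyne : ∀ c : F, y ≠ c • (1 : Matrix ι ι F) := fun c h => hk (c + b / 2) (by
    rw [add_smul, ← h, hy, sub_add_cancel])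
  have hy2 : y * y = δ • (1 : Matrix ι ι F) := by
    have h4 : (4 : F) ≠ 0 := by rw [show (4 : F) = 2 * 2 by norm_num]; exact mul_ne_zero h2 h2
    simp only [hy, sub_mul, mul_sub, smul_mul_assoc, mul_smul_comm, mul_one, one_mul, ← hab, hδd]
    match_scalars <;> field_simp <;> ring
  have hnsq : ¬ IsSquare δ := by
    rintro ⟨s, hs⟩
    have hprod : (y - s • (1 : Matrix ι ι F)) * (y + s • (1 : Matrix ι ι F)) = 0 := by
      simp only [sub_mul, mul_add, smul_mul_assoc, mul_smul_comm, mul_one, one_mul, hy2, hs]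
      module
    obtain ⟨z, -, hz⟩ := hK.inv _ (sub_mem hyK (K.smul_mem K.one_mem s)) (sub_ne_zero.2 (hyne s))
    have hz' : z * (y - s • (1 : Matrix ι ι F)) = 1 := mul_eq_one_comm.1 hz
    refine hyne (-s) (eq_neg_of_add_eq_zero_left ?_ |>.trans (neg_smul _ _).symm)
    calc y + s • (1 : Matrix ι ι F) = z * (y - s • (1 : Matrix ι ι F)) * (y + s • (1 : Matrix ι ι F)) := by
          rw [hz', one_mul]
      _ = 0 := by rw [mul_assoc, hprod, mul_zero]
  refine ⟨δ, y, hnsq, hy2, hyK, fun m => ⟨fun hm => ?_, ?_⟩, ⟨fun _ => trivial, fun u v => ?_, fun w _ => ?_⟩, hyne⟩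
  · replace hm : m ∈ Subalgebra.toSubmodule K := hm
    rw [← hspan] at hm
    obtain ⟨s, t, hst⟩ := Submodule.mem_span_pair.1 hm
    refine ⟨s + t * (b / 2), t, ?_⟩
    rw [← hst, hy]
    module
  · rintro ⟨s, t, rfl⟩
    exact add_mem (K.smul_mem K.one_mem s) (K.smul_mem hyK t)
  · simpa using hKf y hyK u v
  · rw [Matrix.toLin'_apply, Matrix.toLin'_apply, Matrix.mulVec_mulVec, hy2, Matrix.smul_mulVec, Matrix.one_mulVec]

theorem mem_normalizer_iff (h2 : (2 : F) ≠ 0) {K : Subalgebra F (Matrix ι ι F)} {y : Matrix ι ι F}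
    (hy2 : y * y = δ • (1 : Matrix ι ι F)) (hδ : ¬ IsSquare δ) (hyK : y ∈ K)
    (hmem : ∀ k, k ∈ K ↔ ∃ a b : F, k = a • (1 : Matrix ι ι F) + b • y)
    (hyne : ∀ c : F, y ≠ c • (1 : Matrix ι ι F)) (g : GL ι F) :
    g ∈ Cfsg.Geo.subalgebraNormalizer K ↔
      (∀ v, (g : Matrix ι ι F) *ᵥ (y *ᵥ v) = y *ᵥ ((g : Matrix ι ι F) *ᵥ v)) ∨
        (∀ v, (g : Matrix ι ι F) *ᵥ (y *ᵥ v) = -(y *ᵥ ((g : Matrix ι ι F) *ᵥ v))) := by
  set G : Matrix ι ι F := (g : Matrix ι ι F)
  set G' : Matrix ι ι F := ((g⁻¹ : GL ι F) : Matrix ι ι F)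
  have hGG' : G * G' = 1 := g.mul_inv
  have hG'G : G' * G = 1 := g.inv_mul
  have hne : (1 : Matrix ι ι F) ≠ 0 := fun h => hyne 0 (by rw [zero_smul, ← mul_one y, h, mul_zero])
  have key : ∀ a b : F, G * (a • (1 : Matrix ι ι F) + b • y) * G' = a • (1 : Matrix ι ι F) + b • (G * y * G') := by
    intro a b
    simp only [mul_add, add_mul, mul_smul_comm, smul_mul_assoc, mul_one, hGG']
  have mv : ∀ c : F, (G * y = c • (y * G) ↔ ∀ v, G *ᵥ (y *ᵥ v) = c • (y *ᵥ (G *ᵥ v))) := fun c => by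
    rw [Matrix.ext_iff_mulVec]
    simp only [Matrix.smul_mulVec, Matrix.mulVec_mulVec]
  have hcases : ((∀ v, G *ᵥ (y *ᵥ v) = y *ᵥ (G *ᵥ v)) ∨ (∀ v, G *ᵥ (y *ᵥ v) = -(y *ᵥ (G *ᵥ v)))) ↔
      ∃ c : F, (c = 1 ∨ c = -1) ∧ G * y * G' = c • y := by
    have conv : ∀ c : F, (G * y * G' = c • y ↔ G * y = c • (y * G)) := fun c => by
      constructor
      · intro h
        rw [← mul_one (G * y), ← hG'G, ← mul_assoc, h, smul_mul_assoc]
      · intro h
        rw [h, smul_mul_assoc, mul_assoc, hGG', mul_one]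
    constructor
    · rintro (h | h)
      · exact ⟨1, Or.inl rfl, (conv 1).2 ((mv 1).2 (by simpa using h))⟩
      · exact ⟨-1, Or.inr rfl, (conv _).2 ((mv _).2 (by simpa using h))⟩
    · rintro ⟨c, rfl | rfl, h⟩
      · left; simpa using (mv 1).1 ((conv _).1 h)
      · right; simpa using (mv _).1 ((conv _).1 h)
  rw [hcases]
  constructor
  · intro h
    obtain ⟨a, b, hab⟩ := (hmem _).1 ((h y).1 hyK)
    change G * y * G' = _ at hab
    have hsq : (G * y * G') * (G * y * G') = δ • (1 : Matrix ι ι F) := by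
      rw [show (G * y * G') * (G * y * G') = G * y * (G' * G) * y * G' by simp only [mul_assoc],
        hG'G, mul_one, mul_assoc G y y, hy2, mul_smul_comm, smul_mul_assoc, mul_one, hGG']
    rw [hab] at hsq
    simp only [add_mul, mul_add, smul_mul_assoc, mul_smul_comm, mul_one, one_mul, hy2, smul_smul] at hsq
    have hz : (a * a + b * b * δ - δ) • (1 : Matrix ι ι F) + (2 * a * b) • y = 0 := by
      rw [← sub_eq_zero] at hsq
      rw [← hsq]
      module
    have hab0 : 2 * a * b = 0 := by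
      by_contra hne2
      refine hyne (-(2 * a * b)⁻¹ * (a * a + b * b * δ - δ)) ?_
      rw [← inv_smul_smul₀ hne2 y, eq_neg_of_add_eq_zero_right hz, smul_neg, smul_smul, neg_mul, neg_smul]
    rw [hab0, zero_smul, add_zero, smul_eq_zero] at hz
    have hz' := hz.resolve_right hne
    rcases mul_eq_zero.1 hab0 with ha | hb
    · obtain rfl := (mul_eq_zero.1 ha).resolve_left h2
      have hδ0 : δ ≠ 0 := fun h => hδ (h ▸ IsSquare.zero)
      have hb1 : b * b = 1 := mul_right_cancel₀ hδ0 (by linear_combination hz')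
      exact ⟨b, mul_self_eq_one_iff.1 hb1, by rw [hab, zero_smul, zero_add]⟩
    · subst hb
      exact absurd ⟨a, by linear_combination -hz'⟩ hδ
  · rintro ⟨c, hc, hcy⟩ k
    have hcc : c * c = 1 := by rcases hc with rfl | rfl <;> ring
    constructor
    · intro hk
      obtain ⟨a, b, rfl⟩ := (hmem k).1 hk
      exact (hmem _).2 ⟨a, b * c, by rw [key, hcy, smul_smul]⟩
    · intro hk
      obtain ⟨a, b, hab⟩ := (hmem _).1 hk
      refine (hmem k).2 ⟨a, b * c, ?_⟩
      have h1 : G * (a • (1 : Matrix ι ι F) + (b * c) • y) * G' = G * k * G' := by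
        rw [key, hcy, smul_smul, mul_assoc, hcc, mul_one, ← hab]
      have h3 := congrArg (fun M => G' * M * G) h1
      simp only [← mul_assoc, hG'G, one_mul] at h3
      simp only [mul_assoc, hG'G, mul_one] at h3
      exact h3.symm

section Group

variable {y : Matrix ι ι F}

theorem isSquare_mul_iff (h2 : (2 : F) ≠ 0) (hδ : ¬ IsSquare δ) {a : F} (ha : a ≠ 0) :
    IsSquare (δ * a) ↔ ¬ IsSquare a := by
  have hδ0 : δ ≠ 0 := fun h => hδ (h ▸ IsSquare.zero)
  constructor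
  · rintro ⟨s, hs⟩ ⟨t, ht⟩
    exact hδ ⟨s / t, by
      have ht0 : t ≠ 0 := fun h => ha (by rw [ht, h, mul_zero])
      field_simp
      linear_combination hs - δ * ht⟩
  · intro hna
    by_contra h
    obtain ⟨t, -, ht⟩ := Orth.exists_sq_mul h2 ha (mul_ne_zero hδ0 ha) (iff_of_false hna h)
    exact hδ ⟨t, mul_right_cancel₀ ha (by linear_combination ht)⟩

/-- Some element of the centraliser of `y` is in `SO` but outside `Ω`. -/
theorem exists_spinor_element (h2 : (2 : F) ≠ 0) (hQ : (polarBilin Q).Nondegenerate) (hδ : ¬ IsSquare δ)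
    (hY : SqrtOn Q δ ⊤ (Matrix.toLin' y)) (hn : 2 < Fintype.card ι) :
    ∃ c : ↥(Cfsg.isometryGroup F ⇑Q), Orth.detSign Q h2 hQ c = 1 ∧ Orth.spinor Q c = -1 ∧
      ∀ x, Orth.app c (y *ᵥ x) = y *ᵥ Orth.app c x := by
  obtain ⟨v, hv⟩ := exists_beta hδ h2 hQ hY (by rw [finrank_fun_eq]; exact hn) (⟨0, 1⟩ : QuadraticAlgebra F δ 0)
  have hre : polar ⇑Q v (y *ᵥ v) = 0 := by simpa [beta] using congrArg QuadraticAlgebra.re hv
  have him : polar ⇑Q v v = 1 := by simpa [beta, -polar_self] using congrArg QuadraticAlgebra.im hv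
  have hv0 : Q v ≠ 0 := fun h => by rw [polar_self, h, smul_zero] at him; exact zero_ne_one him
  have hyy : ∀ x, y *ᵥ (y *ᵥ x) = δ • x := fun x => by simpa using hY.sq' x
  have hsa : ∀ a b, polar ⇑Q (y *ᵥ a) b = polar ⇑Q a (y *ᵥ b) := fun a b => by simpa using hY.sa a b
  have hw : Q (y *ᵥ v) = δ * Q v := by
    refine mul_left_cancel₀ h2 ?_
    rw [two_mul, two_mul, ← two_nsmul, ← polar_self, hsa, hyy, polar_smul_right, polar_self, two_nsmul, smul_eq_mul,
      mul_add]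
  have hδ0 : δ ≠ 0 := fun h => hδ (h ▸ IsSquare.zero)
  have hw0 : Q (y *ᵥ v) ≠ 0 := hw ▸ mul_ne_zero hδ0 hv0
  refine ⟨Orth.refl Q v hv0 * Orth.refl Q _ hw0, ?_, ?_, fun x => ?_⟩
  · rw [map_mul, Orth.detSign_refl h2 hQ, Orth.detSign_refl h2 hQ]; rfl
  · rw [map_mul, Orth.spinor_refl h2, Orth.spinor_refl h2, hw]
    by_cases hs : IsSquare (Q v)
    · rw [if_pos hs, if_neg fun h => (isSquare_mul_iff h2 hδ hv0).1 h hs]; rfl
    · rw [if_neg hs, if_pos ((isSquare_mul_iff h2 hδ hv0).2 hs)]; rfl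
  · have happ : ∀ x, Orth.app (Orth.refl Q v hv0 * Orth.refl Q _ hw0) x =
        x - ((Q v)⁻¹ * polar ⇑Q v x) • v - ((δ * Q v)⁻¹ * polar ⇑Q (y *ᵥ v) x) • (y *ᵥ v) := by
      intro x
      rw [Orth.app_mul, Orth.app_refl, Orth.app_refl, hw, polar_sub_right, polar_smul_right, hre, smul_zero,
        sub_zero]
      abel
    rw [happ, happ, Matrix.mulVec_sub, Matrix.mulVec_sub, Matrix.mulVec_smul, Matrix.mulVec_smul, hyy,
      ← hsa v x, hsa v (y *ᵥ x), hyy, polar_smul_right, smul_eq_mul]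
    match_scalars <;> field_simp

theorem exists_isometry_conj (h2 : (2 : F) ≠ 0) (hQ : (polarBilin Q).Nondegenerate) (hδ : ¬ IsSquare δ)
    (hY : SqrtOn Q δ ⊤ (Matrix.toLin' y)) {d : ℕ} (hι : Fintype.card ι = 2 * d)
    {Y : (ι → F) →ₗ[F] (ι → F)} (hY' : SqrtOn Q δ ⊤ Y) :
    ∃ g : ↥(Cfsg.isometryGroup F ⇑Q), ∀ v, Orth.app g (y *ᵥ v) = Y (Orth.app g v) := by
  have hd : Module.finrank F (ι → F) = 2 * d := finrank_fun_eq.trans hι
  obtain ⟨φ, hφ, hφY⟩ := exists_conj h2 hδ d Q Q hQ hQ hd hd rfl _ Y hY hY'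
  exact ⟨Orth.ofEquiv Q φ hφ, fun v => by simpa using hφY v⟩

/-- Given a commuting or anticommuting square root in both classes, a conjugate normalises. -/
theorem exists_omega_conj (h2 : (2 : F) ≠ 0) (hQ : (polarBilin Q).Nondegenerate) (hδ : ¬ IsSquare δ)
    (hY : SqrtOn Q δ ⊤ (Matrix.toLin' y)) {d : ℕ} (hd : 2 ≤ d) (hι : Fintype.card ι = 2 * d)
    {x : GL ι F} {s : F} {Y : (ι → F) →ₗ[F] (ι → F)} {w : ι → F} (hY' : SqrtOn Q δ ⊤ Y) (hw : Q w ≠ 0)
    (h1 : ∀ v, Forms.glEquiv ι F x (Y v) = s • Y (Forms.glEquiv ι F x v))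
    (h1' : ∀ Y' : (ι → F) →ₗ[F] (ι → F),
      (∀ z, Y' (z - ((Q w)⁻¹ * polar ⇑Q w z) • w) = Y z - ((Q w)⁻¹ * polar ⇑Q w (Y z)) • w) →
        ∀ v, Forms.glEquiv ι F x (Y' v) = s • Y' (Forms.glEquiv ι F x v)) :
    ∃ g ∈ Cfsg.Geo.omegaGL ⇑Q, ∀ v, ((g⁻¹ * x * g : GL ι F) : Matrix ι ι F) *ᵥ (y *ᵥ v) =
      s • (y *ᵥ (((g⁻¹ * x * g : GL ι F) : Matrix ι ι F) *ᵥ v)) := by
  obtain ⟨c, hcd, hcs, hcy⟩ := exists_spinor_element h2 hQ hδ hY (by omega)
  obtain ⟨g₀, hg₀⟩ := exists_isometry_conj h2 hQ hδ hY hι hY'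
  obtain ⟨g₁, Y₁, hd₁, hg₁, hY₁⟩ : ∃ (g : ↥(Cfsg.isometryGroup F ⇑Q)) (Y₁ : (ι → F) →ₗ[F] (ι → F)),
      Orth.detSign Q h2 hQ g = 1 ∧ (∀ v, Orth.app g (y *ᵥ v) = Y₁ (Orth.app g v)) ∧
        ∀ v, Forms.glEquiv ι F x (Y₁ v) = s • Y₁ (Forms.glEquiv ι F x v) := by
    rcases Int.units_eq_one_or (Orth.detSign Q h2 hQ g₀) with h | h
    · exact ⟨g₀, Y, h, hg₀, h1⟩
    · let R := Matrix.toLin' (Cfsg.reflectionMatrix (⇑Q) w)
      have hR : ∀ z, R z = Orth.app (Orth.refl Q w hw) z := fun z => by simp [R, Orth.app]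
      refine ⟨Orth.refl Q w hw * g₀, R ∘ₗ Y ∘ₗ R, by rw [map_mul, Orth.detSign_refl h2 hQ, h]; rfl, fun v => ?_,
        h1' _ fun z => ?_⟩
      · simp only [Orth.app_mul, hg₀, LinearMap.comp_apply, hR]
        rw [← Orth.app_mul (Orth.refl Q w hw) (Orth.refl Q w hw), Orth.refl_mul_self, Orth.app_one]
      · rw [← Orth.app_refl hw z]
        simp only [LinearMap.comp_apply, hR]
        rw [← Orth.app_mul (Orth.refl Q w hw) (Orth.refl Q w hw), Orth.refl_mul_self, Orth.app_one, Orth.app_refl]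
  obtain ⟨g, hgΩ, hg⟩ : ∃ g ∈ Cfsg.Omega F ⇑Q, ∀ v, Orth.app g (y *ᵥ v) = Y₁ (Orth.app g v) := by
    rcases Int.units_eq_one_or (Orth.spinor Q g₁) with h | h
    · exact ⟨g₁, (Orth.mem_omega_iff h2 hQ (by omega) g₁).2 ⟨hd₁, h⟩, hg₁⟩
    · refine ⟨g₁ * c, (Orth.mem_omega_iff h2 hQ (by omega) _).2
        ⟨by rw [map_mul, hd₁, hcd, one_mul], by rw [map_mul, h, hcs]; rfl⟩, fun v => ?_⟩
      rw [Orth.app_mul, hcy, hg₁, ← Orth.app_mul]
  refine ⟨g, ⟨g, hgΩ, rfl⟩, fun v => Orth.app_injective g ?_⟩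
  have hmul : ∀ u, Orth.app g (((((g : GL ι F))⁻¹ * x * g : GL ι F) : Matrix ι ι F) *ᵥ u) =
      Forms.glEquiv ι F x (Orth.app g u) := by
    intro u
    simp only [Orth.app, Forms.glEquiv_apply, Matrix.mulVec_mulVec]
    rw [← Units.val_mul, ← Units.val_mul]
    congr 2
    group
  rw [hmul, Orth.app_smul, hg, hY₁, hg, hmul]

end Group

section Forward

variable {y : Matrix ι ι F}

/-- Long root elements commute with no square root of a non-square scalar. -/
theorem exists_unipotent (h2 : (2 : F) ≠ 0) (hQ : (polarBilin Q).Nondegenerate) (hδ : ¬ IsSquare δ)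
    (hn : 6 ≤ Fintype.card ι) (p : ℕ) (hp0 : (p : F) = 0) :
    ∃ e : (ι → F) ≃ₗ[F] (ι → F), GoodE Q p e ∧
      ∀ Y, SqrtOn Q δ ⊤ Y → ¬ ∀ v, Y (e v) = e (Y v) := by
  obtain ⟨U, hU0, hUd⟩ := exists_ts_sub hQ (fun _ => h2) (j := 2) (by
    unfold wIdx
    rw [finrank_fun_eq]
    split_ifs <;> omega)
  let b := Module.finBasisOfFinrankEq F U hUd
  set u : ι → F := ((b 0 : U) : ι → F)
  set v : ι → F := ((b 1 : U) : ι → F)
  have hB : ∀ a ∈ U, ∀ c ∈ U, polar ⇑Q a c = 0 := fun a ha c hc => by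
    simp [polar, hU0 _ (U.add_mem ha hc), hU0 _ ha, hU0 _ hc]
  have hli : LinearIndependent F ![u, v] := by
    refine LinearIndependent.pair_iff.2 fun s t h => ?_
    have h' : s • b 0 + t • b 1 = 0 := Subtype.ext h
    have hc := Fintype.linearIndependent_iff.1 b.linearIndependent ![s, t] (by simpa [Fin.sum_univ_two] using h')
    exact ⟨hc 0, hc 1⟩
  have hdual : ∀ a c : ι → F, LinearIndependent F ![a, c] → ∃ w, polar ⇑Q a w = 1 ∧ polar ⇑Q c w = 0 := by
    intro a c hac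
    obtain ⟨f, hfa, hfc⟩ := Submodule.exists_dual_map_eq_bot_of_notMem
      (show a ∉ F ∙ c from fun h => by
        obtain ⟨t, ht⟩ := Submodule.mem_span_singleton.1 h
        have := (LinearIndependent.pair_iff.1 hac) (-1) t (by rw [ht]; simp)
        simp at this) inferInstance
    refine ⟨(f a)⁻¹ • (LinearMap.BilinForm.toDual (polarBilin Q) hQ).symm f, ?_, ?_⟩
    · rw [polar_smul_right, polar_comm, ← polarBilin_apply_apply, LinearMap.BilinForm.apply_toDual_symm_apply,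
        smul_eq_mul, inv_mul_cancel₀ hfa]
    · have : f c = 0 := by
        have := Submodule.mem_map_of_mem (f := f) (Submodule.mem_span_singleton_self c)
        rwa [hfc, Submodule.mem_bot] at this
      rw [polar_smul_right, polar_comm, ← polarBilin_apply_apply, LinearMap.BilinForm.apply_toDual_symm_apply,
        this, smul_zero]
  obtain ⟨w₁, hw₁u, hw₁v⟩ := hdual u v hli
  obtain ⟨w₂, hw₂v, hw₂u⟩ := hdual v u (LinearIndependent.pair_iff.2 fun s t h => by
    have := LinearIndependent.pair_iff.1 hli t s (by rw [add_comm]; exact h)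
    exact ⟨this.2, this.1⟩)
  let A : (ι → F) →ₗ[F] (ι → F) :=
    (polarBilin Q u).smulRight v - (polarBilin Q v).smulRight u
  have hA : ∀ z, A z = polar ⇑Q u z • v - polar ⇑Q v z • u := fun z => rfl
  have huU : u ∈ U := (b 0).2
  have hvU : v ∈ U := (b 1).2
  have hAU : ∀ z, A z ∈ U := fun z => by
    rw [hA]; exact sub_mem (U.smul_mem _ hvU) (U.smul_mem _ huU)
  have hAA : ∀ z, A (A z) = 0 := fun z => by
    rw [hA (A z), hB u huU _ (hAU z), hB v hvU _ (hAU z), zero_smul, zero_smul, sub_zero]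
  have hQA : ∀ z, Q (z + A z) = Q z := fun z => by
    rw [QuadraticMap.map_add (⇑Q), hU0 _ (hAU z), hA, polar_sub_right, polar_smul_right, polar_smul_right,
      polar_comm (⇑Q) z v, polar_comm (⇑Q) z u, smul_eq_mul, smul_eq_mul]
    ring
  let e : (ι → F) ≃ₗ[F] (ι → F) := LinearEquiv.ofLinear (LinearMap.id + A) (LinearMap.id - A)
    (LinearMap.ext fun z => by simp [map_sub, hAA])
    (LinearMap.ext fun z => by simp [map_add, hAA])
  have he : ∀ z, e z = z + A z := fun z => rfl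
  have hek : ∀ (k : ℕ) z, (e ^ k) z = z + (k : F) • A z := by
    intro k
    induction k with
    | zero => intro z; simp
    | succ k ih =>
      intro z
      rw [pow_succ', LinearEquiv.mul_apply, ih, he, map_add, map_smul, hAA, smul_zero, add_zero, Nat.cast_succ,
        add_smul, one_smul]
      abel
  refine ⟨e, ⟨fun z => by rw [he, hQA], LinearEquiv.ext fun z => by rw [hek, hp0, zero_smul, add_zero]; rfl,
    fun h => ?_⟩, fun Y hY hc => ?_⟩
  · have := LinearEquiv.congr_fun h w₁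
    change e w₁ = w₁ at this
    rw [he, hA, hw₁u, hw₁v, one_smul, zero_smul, sub_zero, add_eq_left] at this
    exact hli.ne_zero 1 this
  · have hYA : ∀ z, A (Y z) = Y (A z) := fun z => by
      have := hc z
      rw [he, he, map_add] at this
      exact (add_left_cancel this).symm
    have e1 := hYA w₁
    have e2 := hYA w₂
    simp only [hA, hw₁u, hw₁v, hw₂u, hw₂v, one_smul, zero_smul, sub_zero, zero_sub, map_neg, ← hY.sa] at e1 e2
    set a := polar ⇑Q (Y u) w₁
    set bb := polar ⇑Q (Y v) w₁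
    set c := polar ⇑Q (Y u) w₂
    set ee := polar ⇑Q (Y v) w₂
    have hYv : Y v = a • v - bb • u := e1.symm
    have hYu : Y u = ee • u - c • v := by
      rw [← neg_neg (Y u), ← e2]; abel
    have hb : bb = 0 := by
      have : bb = -bb := by
        conv_lhs => rw [show bb = polar ⇑Q (Y v) w₁ from rfl, hYv, polar_sub_left, polar_smul_left, polar_smul_left,
          hw₁u, hw₁v, smul_zero, zero_sub, smul_eq_mul, mul_one]
      exact (mul_eq_zero.1 (by linear_combination this : (2 : F) * bb = 0)).resolve_left h2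
    have h := hY.sq' v
    rw [hYv, hb, zero_smul, sub_zero, map_smul, hYv, hb, zero_smul, sub_zero, smul_smul] at h
    exact hδ ⟨a, (smul_left_injective F (hli.ne_zero 1) h).symm⟩

/-- The forward direction. -/
theorem eq_two (h2 : (2 : F) ≠ 0) (hQ : (polarBilin Q).Nondegenerate) {d : ℕ} (hd : 4 ≤ d)
    (hι : Fintype.card ι = 2 * d) {p : ℕ} [Fact p.Prime] [CharP F p]
    (K : Subalgebra F (Matrix ι ι F)) (hK : Cfsg.Geo.IsFieldSubalgebra 2 K)
    (hKf : Cfsg.Geo.IsSelfAdjointFor (polar ⇑Q) K) (r : ℕ) [Fact r.Prime]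
    (hΩ : r ∣ (Cfsg.Geo.subalgebraNormalizer K).relIndex (Cfsg.Geo.omegaGL ⇑Q))
    (hfix : ∀ x ∈ Cfsg.Geo.omegaGL ⇑Q, (∃ z : F, ((x ^ r : GL ι F) : Matrix ι ι F) = z • (1 : Matrix ι ι F)) →
      (∀ z : F, (x : Matrix ι ι F) ≠ z • (1 : Matrix ι ι F)) →
      ∃ g ∈ Cfsg.Geo.omegaGL ⇑Q, g⁻¹ * x * g ∈ Cfsg.Geo.subalgebraNormalizer K) : r = 2 := by
  obtain ⟨δ, y, hδ, hy2, hyK, hmem, hY, hyne⟩ := exists_generator h2 hQ hK hKf
  have hn : 5 ≤ Fintype.card ι := by omega
  by_contra hr2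
  have hodd : Odd r := (Fact.out : r.Prime).odd_of_ne_two hr2
  -- an element of order `r` commuting with no square root is a contradiction
  have derange : ∀ e : (ι → F) ≃ₗ[F] (ι → F), GoodE Q r e →
      (∀ Y, SqrtOn Q δ ⊤ Y → ¬ ∀ v, Y (e v) = e (Y v)) → False := by
    intro e he hno
    obtain ⟨x, hx, hxe, -, hxr, hxz⟩ := exists_gl hQ hn hr2 he
    obtain ⟨g, hg, hgN⟩ := hfix x hx ⟨1, by rw [hxr, one_smul]; rfl⟩ hxz
    obtain ⟨g', -, rfl⟩ := hg
    let φ := Forms.glEquiv ι F (g' : GL ι F)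
    have hφQ : ∀ v, Q (φ v) = Q v := fun v => Forms.isometryGroup_apply g' v
    let Y : (ι → F) →ₗ[F] (ι → F) := φ.toLinearMap ∘ₗ Matrix.toLin' y ∘ₗ φ.symm.toLinearMap
    have hpol : ∀ a b, polar ⇑Q (φ a) (φ b) = polar ⇑Q a b := polar_e hφQ
    have hYs : SqrtOn Q δ ⊤ Y := by
      refine ⟨fun _ => trivial, fun a b => ?_, fun a _ => ?_⟩
      · obtain ⟨a', rfl⟩ := φ.surjective a
        obtain ⟨b', rfl⟩ := φ.surjective b
        simp only [Y, LinearMap.comp_apply, LinearEquiv.coe_coe, LinearEquiv.symm_apply_apply, hpol, hY.sa]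
      · simp only [Y, LinearMap.comp_apply, LinearEquiv.coe_coe, LinearEquiv.symm_apply_apply, hY.sq', map_smul,
          LinearEquiv.apply_symm_apply]
    have hconj : ∀ v, φ ((((g' : GL ι F)⁻¹ * x * g' : GL ι F) : Matrix ι ι F) *ᵥ v) = e (φ v) := fun v => by
      rw [← hxe, ← Forms.glEquiv_apply]
      simp only [φ, map_mul, map_inv, LinearEquiv.mul_apply]
      exact LinearEquiv.apply_symm_apply (Forms.glEquiv ι F (g' : GL ι F)) _
    obtain ⟨c, hcc, hc⟩ : ∃ c : F, (c = 1 ∨ c = -1) ∧ ∀ v, e (Y v) = c • Y (e v) := by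
      have tr : ∀ c : F, (∀ v, (((g' : GL ι F)⁻¹ * x * g' : GL ι F) : Matrix ι ι F) *ᵥ (y *ᵥ v) =
          c • (y *ᵥ ((((g' : GL ι F)⁻¹ * x * g' : GL ι F) : Matrix ι ι F) *ᵥ v))) →
          ∀ v, e (Y v) = c • Y (e v) := by
        intro c hc v
        obtain ⟨v, rfl⟩ := φ.surjective v
        simp only [Y, LinearMap.comp_apply, LinearEquiv.coe_coe, LinearEquiv.symm_apply_apply,
          Matrix.toLin'_apply, ← hconj, hc, map_smul]
      rcases (mem_normalizer_iff h2 hy2 hδ hyK hmem hyne _).1 hgN with h | h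
      · exact ⟨1, Or.inl rfl, tr 1 fun v => by rw [one_smul]; exact h v⟩
      · exact ⟨-1, Or.inr rfl, tr _ fun v => by rw [neg_one_smul]; exact h v⟩
    rcases hcc with rfl | rfl
    · exact hno Y hYs fun v => by rw [hc, one_smul]
    · -- anticommuting is impossible for odd `r`
      have hk : ∀ (k : ℕ) v, (e ^ k) (Y v) = (-1 : F) ^ k • Y ((e ^ k) v) := by
        intro k
        induction k with
        | zero => intro v; simp
        | succ k ih =>
          intro v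
          rw [pow_succ', LinearEquiv.mul_apply, ih, map_smul, hc, smul_smul, LinearEquiv.mul_apply, pow_succ]
      obtain ⟨v, hv⟩ := exists_anisotropic hQ (by omega)
      have h := hk r v
      rw [he.2.1, hodd.neg_one_pow, neg_one_smul] at h
      change Y v = -Y v at h
      have h0 : (2 : F) • Y v = 0 := by rw [two_smul]; nth_rw 2 [h]; exact add_neg_cancel _
      have h3 := hYs.sq' v
      rw [(smul_eq_zero.1 h0).resolve_left h2, map_zero] at h3
      rcases smul_eq_zero.1 h3.symm with h4 | h4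
      · exact hδ (h4 ▸ IsSquare.zero)
      · exact hv (by rw [h4, map_zero])
  by_cases hrp : r = p
  · obtain ⟨e, he, hno⟩ := exists_unipotent (Q := Q) h2 hQ hδ (by omega) r (by rw [hrp]; exact CharP.cast_eq_zero F p)
    exact derange e he hno
  have hr0 : (r : F) ≠ 0 := cast_ne_zero_of_ne hrp
  -- `r` divides the order of the isometry group
  let G := Cfsg.isometryGroup F ⇑Q
  haveI : Finite (GL ι F) := inferInstance
  have hΩG : Cfsg.Geo.omegaGL ⇑Q ≤ G := by rintro _ ⟨g, -, rfl⟩; exact g.2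
  have hrG : r ∣ Nat.card G := hΩ.trans ((Subgroup.index_dvd_card _).trans (Subgroup.card_dvd_of_le hΩG))
  obtain ⟨g₀, hg₀⟩ := exists_prime_orderOf_dvd_card' (G := G) r hrG
  set e₀ := Forms.glEquiv ι F (g₀ : GL ι F)
  have he₀Q : ∀ v, Q (e₀ v) = Q v := fun v => Forms.isometryGroup_apply g₀ v
  have he₀r : e₀ ^ r = 1 := by
    rw [← map_pow, ← SubgroupClass.coe_pow, ← hg₀, pow_orderOf_eq_one, OneMemClass.coe_one, map_one]
  have he₀ne : movS e₀ ≠ ⊥ := fun h => by
    have : e₀ = 1 := LinearEquiv.ext fun v => by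
      have := sub_mem_movS (e := e₀) v
      rwa [h, Submodule.mem_bot, sub_eq_zero] at this
    have : (g₀ : GL ι F) = 1 := (Forms.glEquiv ι F).map_eq_one_iff.1 this
    rw [OneMemClass.coe_eq_one.1 this, orderOf_one] at hg₀
    exact (Fact.out : r.Prime).one_lt.ne hg₀
  obtain ⟨-, hm₀, -⟩ := qperp_fixS he₀Q he₀r hr0 hQ
  have hev₀ := even_finrank he₀r hr0 he₀Q hr2 inv_movS le_rfl hm₀
  have hdvd₀ := orderOf_dvd_finrank he₀r hr0 (W := movS e₀) inv_movS le_rfl
  set i := orderOf (Fintype.card F : ZMod r) with hi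
  obtain ⟨t, ht⟩ : ∃ t, Module.finrank F (movS e₀) = cdim F r * t := by
    unfold cdim
    rw [← hi]
    split_ifs with hev
    · exact hdvd₀
    · exact (Nat.Coprime.mul_dvd_of_dvd_of_dvd (Nat.coprime_two_left.2 (Nat.not_even_iff_odd.1 hev))
        hev₀.two_dvd hdvd₀)
  have hadm : cdim F r * 1 < Module.finrank F (ι → F) ∨
      (cdim F r * 1 = Module.finrank F (ι → F) ∧ qsgn Q = bsgn F r 1) := by
    have hpos : 0 < Module.finrank F (movS e₀) := Nat.pos_of_ne_zero fun h => he₀ne (Submodule.finrank_eq_zero.1 h)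
    have hle := Submodule.finrank_le (movS e₀)
    rcases Nat.lt_or_ge (cdim F r) (Module.finrank F (ι → F)) with h | h
    · left; rwa [mul_one]
    · right
      have ht1 : t = 1 := by
        rcases Nat.lt_or_ge t 2 with h' | h'
        · rcases Nat.eq_zero_or_pos t with rfl | h''
          · omega
          · omega
        · exfalso
          have := Nat.mul_le_mul_left (cdim F r) h'
          have := cdim_pos (F := F) hr0
          omega
      subst ht1
      have htop : movS e₀ = ⊤ := Submodule.eq_top_of_finrank_eq (by omega)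
      refine ⟨by omega, ?_⟩
      rw [← qsgn_blocks he₀Q he₀r hr0 hr2 inv_movS le_rfl hm₀ ht]
      exact (qsgn_congr (R := rQ Q (movS e₀)) (T := Q) (LinearEquiv.ofTop _ htop) fun v => rfl)
  obtain ⟨e, heQ, her, hene, hed, -⟩ := exists_elem hQ (fun _ => h2) hr0 hr2 le_rfl hadm
  rw [mul_one] at hed
  have hgood : GoodE Q r e := ⟨heQ, her, hene⟩
  rcases Nat.even_or_odd i with hev | hiodd
  swap
  · refine derange e hgood fun Y hYY hc => not_commute_odd h2 hδ her hr0 hr2 hQ heQ hYY.sq' hc hiodd ?_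
    rw [hed, cdim, if_neg (Nat.not_even_iff_odd.2 hiodd)]
  rcases Nat.even_or_odd (i / 2) with hev2 | hodd2
  swap
  · refine derange e hgood fun Y hYY hc => not_commute_block h2 hδ her hr0 hr2 hQ heQ hYY hc hev hodd2 ?_
    rw [hed, cdim, if_pos hev]
  -- `4 ∣ i`: `r` does not divide the index
  have h4 : 4 ∣ i := by
    obtain ⟨a, ha⟩ := hev2
    obtain ⟨b, hb⟩ := hev
    exact ⟨a, by omega⟩
  obtain ⟨P₀⟩ : Nonempty (Sylow r G) := inferInstance
  let P : Subgroup ((ι → F) ≃ₗ[F] (ι → F)) :=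
    (P₀ : Subgroup G).map ((Forms.glEquiv ι F).toMonoidHom.comp G.subtype)
  have hPQ : ∀ g ∈ P, ∀ v, Q (g v) = Q v := by
    rintro _ ⟨g, -, rfl⟩ v
    exact Forms.isometryGroup_apply g v
  obtain ⟨Y₀, hY₀, hY₀c⟩ := exists_commute_pgroup hr0 hr2 h4 h2 hδ hQ (P := P) (P₀.2.map _) hPQ _ ⊤
    (nd_top Q hQ) le_rfl (by rw [finrank_top, finrank_fun_eq, hι]; exact even_two_mul d) (fun _ _ _ _ => trivial)
  obtain ⟨g, hg⟩ := exists_isometry_conj h2 hQ hδ hY hι hY₀
  let P₁ : Subgroup G := (P₀ : Subgroup G).map (MulAut.conj g⁻¹).toMonoidHom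
  have hP₁idx : ¬ r ∣ P₁.index := by
    rw [show P₁.index = (P₀ : Subgroup G).index from
      Subgroup.index_map_of_bijective (MulAut.conj g⁻¹).bijective _]
    exact P₀.not_dvd_index
  have hP₁Ω : P₁.map G.subtype ≤ Cfsg.Geo.subalgebraNormalizer K ⊓ Cfsg.Geo.omegaGL ⇑Q := by
    rintro _ ⟨_, ⟨a, ha, rfl⟩, rfl⟩
    refine ⟨(mem_normalizer_iff h2 hy2 hδ hyK hmem hyne _).2 (Or.inl fun v => ?_), ?_⟩
    · have hb : ∀ u, Orth.app ((MulAut.conj g⁻¹).toMonoidHom a) u = Orth.app g⁻¹ (Orth.app a (Orth.app g u)) := by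
        intro u
        simp [MulAut.conj_apply]
      show Orth.app _ (y *ᵥ v) = y *ᵥ Orth.app _ v
      apply Orth.app_injective g
      rw [hg, hb, hb, Orth.app_app_inv, Orth.app_app_inv, hg]
      exact hY₀c _ ⟨a, ha, rfl⟩ _
    · obtain ⟨k, hk⟩ := P₀.2 ⟨a, ha⟩
      refine ⟨_, mem_omega_of_pow_eq_one hQ hn (hodd.pow (n := k)) (g := (MulAut.conj g⁻¹).toMonoidHom a) ?_, rfl⟩
      rw [← map_pow, show a ^ r ^ k = 1 from congrArg Subtype.val hk, map_one]
  apply hP₁idx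
  have h1 : (P₁.map G.subtype).relIndex G = P₁.index := by
    rw [Subgroup.relIndex, Subgroup.subgroupOf, Subgroup.comap_map_eq_self_of_injective G.subtype_injective]
  rw [← h1, ← Subgroup.relIndex_mul_relIndex _ _ _ hP₁Ω (inf_le_right.trans hΩG),
    ← Subgroup.relIndex_mul_relIndex (Cfsg.Geo.subalgebraNormalizer K ⊓ Cfsg.Geo.omegaGL ⇑Q) _ _ inf_le_right hΩG,
    Subgroup.inf_relIndex_right]
  exact dvd_mul_of_dvd_right (dvd_mul_of_dvd_left hΩ _) _

end Forward

/-- Every element of order two modulo scalars has a conjugate in the normaliser. -/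
theorem fix_two (h2 : (2 : F) ≠ 0) (hQ : (polarBilin Q).Nondegenerate) {d : ℕ} (hd : 2 ≤ d)
    (hι : Fintype.card ι = 2 * d) (K : Subalgebra F (Matrix ι ι F)) (hK : Cfsg.Geo.IsFieldSubalgebra 2 K)
    (hKf : Cfsg.Geo.IsSelfAdjointFor (polar ⇑Q) K) (x : GL ι F) (hx : x ∈ Cfsg.Geo.omegaGL ⇑Q)
    (hz : ∃ z : F, ((x ^ 2 : GL ι F) : Matrix ι ι F) = z • (1 : Matrix ι ι F))
    (hns : ∀ z : F, (x : Matrix ι ι F) ≠ z • (1 : Matrix ι ι F)) :
    ∃ g ∈ Cfsg.Geo.omegaGL ⇑Q, g⁻¹ * x * g ∈ Cfsg.Geo.subalgebraNormalizer K := by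
  obtain ⟨δ, y, hδ, hy2, hyK, hmem, hY, hyne⟩ := exists_generator h2 hQ hK hKf
  set e := Forms.glEquiv ι F x
  have heQ : ∀ v, Q (e v) = Q v := isometry_of_mem hx
  obtain ⟨z, hz⟩ := hz
  rw [eq_smul_one_iff, map_pow] at hz
  have hee : ∀ v, e (e v) = z • v := fun v => by rw [← hz, _root_.sq, LinearEquiv.mul_apply]
  obtain ⟨v₀, hv₀⟩ := exists_anisotropic hQ (by omega)
  have hz2 : z * z = 1 := by
    have h := congrArg Q (hee v₀)
    rw [heQ, heQ, QuadraticMap.map_smul, smul_eq_mul] at h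
    exact (mul_eq_right₀ hv₀).1 h.symm
  have hdim : Module.finrank F (ι → F) = 2 * d := finrank_fun_eq.trans hι
  rcases mul_self_eq_one_iff.1 hz2 with rfl | rfl
  · have he2 : e ^ 2 = 1 := LinearEquiv.ext fun v => by rw [hz, one_smul]; rfl
    have h20 : ((2 : ℕ) : F) ≠ 0 := by simpa using h2
    have hc := isCompl_fixS_movS he2 h20
    have hfne : fixS e ≠ ⊥ := fun h => hns (-1) ((eq_smul_one_iff x _).2 fun v => by
      have h1 : e v + v ∈ fixS e := mem_fixS.2 (by rw [map_add, hee, one_smul, add_comm])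
      rw [h, Submodule.mem_bot] at h1
      rw [neg_one_smul]
      exact eq_neg_of_add_eq_zero_left h1)
    have hmev : Even (Module.finrank F (movS e)) := by
      have hdet : LinearMap.det e.toLinearMap = 1 := by
        obtain ⟨gx, hgx, rfl⟩ := hx
        have h := ((Orth.mem_omega_iff h2 hQ (by omega) gx).1 hgx).1
        have hdet : ((gx : GL ι F) : Matrix ι ι F).det = 1 := by
          by_contra hne
          simp [Orth.detSign, hne] at h
        rw [show e.toLinearMap = Matrix.toLin' ((gx : GL ι F) : Matrix ι ι F) from rfl, LinearMap.det_toLin', hdet]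
      let Φ := Submodule.prodEquivOfIsCompl _ _ hc
      have hconj : e.toLinearMap = Φ.toLinearMap ∘ₗ
          (LinearMap.prodMap (LinearMap.id : fixS e →ₗ[F] fixS e) ((-1 : F) • LinearMap.id : movS e →ₗ[F] movS e))
            ∘ₗ Φ.symm.toLinearMap := by
        refine LinearMap.ext fun v => ?_
        obtain ⟨⟨a, b⟩, rfl⟩ := Φ.surjective v
        simp only [LinearMap.comp_apply, LinearEquiv.coe_coe, LinearEquiv.symm_apply_apply]
        simp only [Φ, Submodule.coe_prodEquivOfIsCompl', LinearMap.prodMap_apply, map_add, LinearMap.id_apply,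
          LinearMap.smul_apply, mem_fixS.1 a.2]
        obtain ⟨w, hw⟩ := b.2
        congr 1
        rw [Submodule.coe_smul, neg_one_smul, ← hw]
        simp [hee]
      rw [hconj, LinearMap.det_conj, LinearMap.det_prodMap, LinearMap.det_id, one_mul, LinearMap.det_smul,
        LinearMap.det_id, mul_one] at hdet
      exact (neg_one_pow_eq_one_iff_even (fun h => h2 (by linear_combination -h))).1 hdet
    obtain ⟨Y, w, hY', hw, h1, h1'⟩ := exists_pair_commute (Q := Q) h2 hQ heQ he2 δ hmev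
      (by rw [hdim]; exact even_two_mul d) hfne
    obtain ⟨g, hg, hgy⟩ := exists_omega_conj h2 hQ hδ hY hd hι (x := x) (s := 1) hY' hw
      (fun v => by rw [one_smul]; exact h1 v) (fun Y' h v => by rw [one_smul]; exact h1' Y' h v)
    exact ⟨g, hg, (mem_normalizer_iff h2 hy2 hδ hyK hmem hyne _).2 (Or.inl fun v => by rw [hgy, one_smul])⟩
  · obtain ⟨Y, w, hY', hw, h1, h1'⟩ := exists_pair_anticommute (Q := Q) h2 hQ heQ
      (fun v => by rw [hee, neg_one_smul]) δ (fun h => by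
        have := congrArg (fun W : Submodule F (ι → F) => Module.finrank F W) h
        simp only [finrank_top, finrank_bot] at this
        omega)
    obtain ⟨g, hg, hgy⟩ := exists_omega_conj h2 hQ hδ hY hd hι (x := x) (s := -1) hY' hw
      (fun v => by rw [neg_one_smul]; exact h1 v) (fun Y' h v => by rw [neg_one_smul]; exact h1' Y' h v)
    exact ⟨g, hg, (mem_normalizer_iff h2 hy2 hδ hyK hmem hyne _).2 (Or.inr fun v => by rw [hgy, neg_one_smul])⟩

/-- Every element of prime order `r` dividing the index fixes a point exactly when `r = 2`. -/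
theorem fix_iff_eq_two (h2 : (2 : F) ≠ 0) (hQ : (polarBilin Q).Nondegenerate) {d : ℕ} (hd : 4 ≤ d)
    (hι : Fintype.card ι = 2 * d) {p : ℕ} [Fact p.Prime] [CharP F p]
    (K : Subalgebra F (Matrix ι ι F)) (hK : Cfsg.Geo.IsFieldSubalgebra 2 K)
    (hKf : Cfsg.Geo.IsSelfAdjointFor (polar ⇑Q) K) (r : ℕ) [Fact r.Prime]
    (hΩ : r ∣ (Cfsg.Geo.subalgebraNormalizer K).relIndex (Cfsg.Geo.omegaGL ⇑Q)) :
    (∀ x ∈ Cfsg.Geo.omegaGL ⇑Q, (∃ z : F, ((x ^ r : GL ι F) : Matrix ι ι F) = z • (1 : Matrix ι ι F)) →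
      (∀ z : F, (x : Matrix ι ι F) ≠ z • (1 : Matrix ι ι F)) →
      ∃ g ∈ Cfsg.Geo.omegaGL ⇑Q, g⁻¹ * x * g ∈ Cfsg.Geo.subalgebraNormalizer K) ↔ r = 2 := by
  refine ⟨eq_two h2 hQ hd hι (p := p) K hK hKf r hΩ, ?_⟩
  rintro rfl x hx hz hns
  exact fix_two h2 hQ (by omega) hι K hK hKf x hx hz hns

end Cfsg.Agent.Lib.OrthExtDerange
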